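import Mathlib
import Cfsg.Agent.Lib.Hall.Basic
import Cfsg.Agent.Lib.FrobCompl.Noncyclic

/-!
Lucido's three prime lemma: among three prime divisors of the order of a finite solvable group,
two are joined in the prime graph.
-/

set_option autoImplicit false
set_option linter.style.haveILetI false

namespace CfsgLib.Spectrum

universe u

/-- A power of `g` has order exactly `n` when `n` divides the order of `g`. -/
theorem exists_orderOf_eq_of_dvd {G : Type*} [Group G] [Finite G] {g : G} {n : ℕ} (hn : n ∣ orderOf g) :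
    ∃ h : G, orderOf h = n := by
  have h0 := (orderOf_pos g).ne'
  refine ⟨g ^ (orderOf g / n), ?_⟩
  rw [orderOf_pow_of_dvd (Nat.div_pos (Nat.le_of_dvd (orderOf_pos g) hn)
      (Nat.pos_of_dvd_of_pos hn (orderOf_pos g))).ne' (Nat.div_dvd_of_dvd hn), Nat.div_div_self hn h0]

/-- A finite cyclic group has one subgroup of each order. -/
theorem eq_of_card_eq_cyclic_aux {G : Type*} [Group G] [Finite G] {W H L : Subgroup G} [IsCyclic W]
    (hH : H ≤ W) (hL : L ≤ W) (hc : Nat.card H = Nat.card L) : H = L := by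
  classical
  haveI := Fintype.ofFinite W
  have key : ∀ J : Subgroup G, J ≤ W → Nat.card J = Nat.card H →
      (Finset.univ.filter fun x : W => (x : G) ∈ J) =
      Finset.univ.filter fun x : W => x ^ Nat.card H = 1 := by
    intro J hJ hJc
    refine Finset.eq_of_subset_of_card_le (fun x hx => ?_) ?_
    · simp only [Finset.mem_filter, Finset.mem_univ, true_and] at hx ⊢
      refine Subtype.ext ?_
      have := pow_card_eq_one' (x := (⟨x, hx⟩ : J))
      rw [hJc] at this
      simpa using congrArg Subtype.val this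
    · refine (IsCyclic.card_pow_eq_one_le Nat.card_pos).trans ?_
      rw [← Fintype.card_subtype, ← hJc, ← Nat.card_eq_fintype_card,
        ← Nat.card_congr (Subgroup.subgroupOfEquivOfLe hJ).toEquiv]
      rfl
  ext g
  by_cases hg : g ∈ W
  · have h := Finset.ext_iff.mp ((key H hH rfl).trans (key L hL hc.symm).symm) ⟨g, hg⟩
    simpa using h
  · exact ⟨fun h => absurd (hH h) hg, fun h => absurd (hL h) hg⟩

theorem three_primes_aux : ∀ (n : ℕ) (G : Type u) [Group G] [Finite G] [Group.IsSolvable G],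
    Nat.card G = n → ∀ (σ : Finset ℕ), 3 ≤ σ.card → (∀ p ∈ σ, p.Prime) →
    (∀ p ∈ σ, p ∣ Nat.card G) → ∃ p ∈ σ, ∃ q ∈ σ, p ≠ q ∧ ∃ g : G, orderOf g = p * q := by
  intro n
  induction n using Nat.strong_induction_on with
  | _ n ih =>
  intro G _ _ _ hn σ hσ hprime hdvd
  by_contra hno
  push Not at hno
  obtain ⟨p₀, hp₀⟩ := Finset.card_pos.mp (by omega : 0 < σ.card)
  haveI : Nontrivial G := Finite.one_lt_card_iff_nontrivial.mp
    (lt_of_lt_of_le (hprime p₀ hp₀).one_lt (Nat.le_of_dvd Nat.card_pos (hdvd p₀ hp₀)))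
  obtain ⟨r, hr, N, hN, hN1, hNr, hNc⟩ := CfsgLib.Hall.exists_normal_pgroup_ne_bot (G := G)
  haveI := hN
  haveI := hNc
  haveI := Fact.mk hr
  obtain ⟨e, he⟩ := IsPGroup.iff_card.mp hNr
  by_cases hrσ : r ∈ σ
  · -- two other primes
    obtain ⟨p, hp, q, hq, hpq⟩ := Finset.one_lt_card.mp
      (by rw [Finset.card_erase_of_mem hrσ]; omega : 1 < (σ.erase r).card)
    obtain ⟨hpr, hp⟩ := Finset.mem_erase.mp hp
    obtain ⟨hqr, hq⟩ := Finset.mem_erase.mp hq
    have hpP := hprime p hp
    have hqP := hprime q hq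
    set m := p ^ (Nat.card G).factorization p * q ^ (Nat.card G).factorization q with hm
    have hmd : m ∣ Nat.card G := Nat.Coprime.mul_dvd_of_dvd_of_dvd
      (Nat.Coprime.pow _ _ ((Nat.coprime_primes hpP hqP).mpr hpq)) (Nat.ordProj_dvd _ _)
      (Nat.ordProj_dvd _ _)
    obtain ⟨c, hc⟩ := hmd
    have hG0 : Nat.card G ≠ 0 := Nat.card_pos.ne'
    have hpm : p ∣ m := Dvd.dvd.mul_right (dvd_pow_self p
      (hpP.factorization_pos_of_dvd hG0 (hdvd p hp)).ne') _
    have hqm : q ∣ m := Dvd.dvd.mul_left (dvd_pow_self q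
      (hqP.factorization_pos_of_dvd hG0 (hdvd q hq)).ne') _
    have hnot : ∀ t : ℕ, t.Prime → (t = p ∨ t = q) → ¬ t ∣ c := by
      intro t ht htpq htc
      have hpart : t ^ (Nat.card G).factorization t ∣ m := by
        rcases htpq with rfl | rfl
        · exact Dvd.intro _ hm.symm
        · exact Dvd.intro_left _ hm.symm
      have hsucc : t ^ ((Nat.card G).factorization t + 1) ∣ Nat.card G := by
        rw [pow_succ]
        exact (Nat.mul_dvd_mul hpart htc).trans (dvd_of_eq hc.symm)
      exact Nat.pow_succ_factorization_not_dvd hG0 ht hsucc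
    have hmc : m.Coprime c := Nat.Coprime.mul_left
      (Nat.Coprime.pow_left _ (hpP.coprime_iff_not_dvd.mpr (hnot p hpP (Or.inl rfl))))
      (Nat.Coprime.pow_left _ (hqP.coprime_iff_not_dvd.mpr (hnot q hqP (Or.inr rfl))))
    obtain ⟨K, hK⟩ := CfsgLib.Hall.exists_hall hc hmc
    haveI : Nontrivial K := Finite.one_lt_card_iff_nontrivial.mp
      (lt_of_lt_of_le hpP.one_lt (hK ▸ Nat.le_of_dvd (hK ▸ Nat.card_pos) hpm))
    have hfpf : ∀ x ∈ K, x ≠ 1 → N ⊓ Subgroup.centralizer {x} = ⊥ := by
      intro x hx hx1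
      rw [Subgroup.eq_bot_iff_forall]
      intro v hv
      obtain ⟨hvN, hvC⟩ := Subgroup.mem_inf.mp hv
      by_contra hv1
      obtain ⟨t, ht, htd⟩ := Nat.exists_prime_and_dvd (fun h => hx1 (orderOf_eq_one_iff.mp h))
      have htm : t ∣ m := htd.trans (hK ▸ Subgroup.orderOf_dvd_natCard K hx)
      have ht' : t = p ∨ t = q := by
        rcases (Nat.Prime.dvd_mul ht).mp htm with h | h
        · exact Or.inl ((Nat.prime_dvd_prime_iff_eq ht hpP).mp (ht.dvd_of_dvd_pow h))
        · exact Or.inr ((Nat.prime_dvd_prime_iff_eq ht hqP).mp (ht.dvd_of_dvd_pow h))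
      obtain ⟨j, hj⟩ : ∃ j, orderOf v = r ^ j := by
        obtain ⟨j, -, hj⟩ := (Nat.dvd_prime_pow hr).mp (he ▸ Subgroup.orderOf_dvd_natCard N hvN)
        exact ⟨j, hj⟩
      have hrv : r ∣ orderOf v := by
        rw [hj]
        exact dvd_pow_self r (fun h => hv1 (orderOf_eq_one_iff.mp (by rw [hj, h, pow_zero])))
      have htr : t ≠ r := by rcases ht' with rfl | rfl <;> assumption
      set a := x ^ (orderOf x / t) with ha
      set b := v ^ (orderOf v / r) with hb
      have hab : Commute a b :=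
        (show Commute x v from (Subgroup.mem_centralizer_singleton_iff.mp hvC).symm).pow_pow _ _
      have hoa : orderOf a = t := orderOf_pow_orderOf_div (orderOf_pos x).ne' htd
      have hob : orderOf b = r := orderOf_pow_orderOf_div (orderOf_pos v).ne' hrv
      have hord : orderOf (a * b) = t * r := by
        rw [hab.orderOf_mul_eq_mul_orderOf_of_coprime, hoa, hob]
        rw [hoa, hob]
        exact (Nat.coprime_primes ht hr).mpr htr
      exact hno t (by rcases ht' with rfl | rfl <;> assumption) r hrσ htr _ hord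
    obtain ⟨s, hs, M, hM, hM1, hMs, hMc⟩ := CfsgLib.Hall.exists_normal_pgroup_ne_bot (G := K)
    haveI := hM
    haveI := hMc
    haveI := Fact.mk hs
    haveI : IsMulCommutative (M.map K.subtype) := Subgroup.map_isMulCommutative _ _
    have hMK : M.map K.subtype ≤ K := Subgroup.map_subtype_le _
    haveI hcyc : IsCyclic (M.map K.subtype) := CfsgLib.FrobCompl.isCyclic_of_comm hN1
      Subgroup.le_normalizer_of_normal (fun x hx => hfpf x (hMK hx))
    haveI : IsCyclic M := isCyclic_of_surjective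
      (M.equivMapOfInjective K.subtype K.subtype_injective).symm.toMonoidHom
      (MulEquiv.surjective _)
    haveI : Nontrivial M := (Subgroup.nontrivial_iff_ne_bot M).mpr hM1
    obtain ⟨j, hj0, hj⟩ := hMs.nontrivial_iff_card.mp inferInstance
    have hsM : s ∣ Nat.card M := hj ▸ dvd_pow_self s hj0.ne'
    obtain ⟨y, hy⟩ := exists_prime_orderOf_dvd_card' (G := M) s hsM
    have hsm : s ∣ m := hK ▸ hsM.trans (Subgroup.card_subgroup_dvd_card M)
    have hs' : s = p ∨ s = q := by
      rcases (Nat.Prime.dvd_mul hs).mp hsm with h | h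
      · exact Or.inl ((Nat.prime_dvd_prime_iff_eq hs hpP).mp (hs.dvd_of_dvd_pow h))
      · exact Or.inr ((Nat.prime_dvd_prime_iff_eq hs hqP).mp (hs.dvd_of_dvd_pow h))
    obtain ⟨t, ht, hts, htσ, htm⟩ : ∃ t, t.Prime ∧ t ≠ s ∧ t ∈ σ ∧ t ∣ m := by
      rcases hs' with rfl | rfl
      · exact ⟨q, hqP, hpq.symm, hq, hqm⟩
      · exact ⟨p, hpP, hpq, hp, hpm⟩
    haveI := Fact.mk ht
    obtain ⟨x, hx⟩ := exists_prime_orderOf_dvd_card' (G := K) t (hK ▸ htm)
    have hy' : orderOf ((y : K) : G) = s := by rw [Subgroup.orderOf_coe, Subgroup.orderOf_coe, hy]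
    have hx' : orderOf (x : G) = t := by rw [Subgroup.orderOf_coe, hx]
    have hnorm : (x : G) ∈ Subgroup.normalizer
        ((Subgroup.zpowers ((y : K) : G) : Subgroup G) : Set G) := by
      have hcm : (x * (y : K) * x⁻¹) ∈ M := hM.conj_mem _ y.2 x
      have hmap : (Subgroup.zpowers ((y : K) : G)).map (MulAut.conj (x : G)).toMonoidHom =
          Subgroup.zpowers ((y : K) : G) := by
        rw [MonoidHom.map_zpowers]
        refine eq_of_card_eq_cyclic_aux (W := M.map K.subtype)
          (Subgroup.zpowers_le.mpr ⟨_, hcm, by simp⟩) (Subgroup.zpowers_le.mpr ⟨_, y.2, rfl⟩) ?_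
        rw [Nat.card_zpowers, Nat.card_zpowers]
        exact MulEquiv.orderOf_eq (MulAut.conj (x : G)) _
      rw [Subgroup.mem_normalizer_iff]
      intro z
      constructor
      · intro hz
        rw [← hmap]
        exact ⟨z, hz, by simp⟩
      · intro hz
        rw [← hmap] at hz
        obtain ⟨w, hw, hw'⟩ := hz
        have : w = z := (MulAut.conj (x : G)).injective (by simpa using hw')
        exact this ▸ hw
    have hcomm := (CfsgLib.FrobCompl.mem_zpowers_or_commute ht hs (A := K) (V := N) hN1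
      Subgroup.le_normalizer_of_normal hfpf x.2 (y : K).2 hx' hy' hnorm).2
    refine hno t htσ s (by rcases hs' with rfl | rfl <;> assumption) hts ((x : G) * ((y : K) : G)) ?_
    rw [(show Commute (x : G) ((y : K) : G) from hcomm).orderOf_mul_eq_mul_orderOf_of_coprime, hx', hy']
    rw [hx', hy']
    exact (Nat.coprime_primes ht hs).mpr hts
  · have hcard := Subgroup.card_eq_card_quotient_mul_card_subgroup N
    haveI : Nontrivial N := (Subgroup.nontrivial_iff_ne_bot N).mpr hN1
    have hlt : Nat.card (G ⧸ N) < n := by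
      rw [← hn, hcard]
      exact lt_mul_of_one_lt_right Nat.card_pos Finite.one_lt_card
    haveI : Group.IsSolvable (G ⧸ N) := Group.isSolvable_of_surjective (QuotientGroup.mk'_surjective N)
    have hdq : ∀ p ∈ σ, p ∣ Nat.card (G ⧸ N) := fun p hp => by
      rcases (hprime p hp).dvd_mul.mp (hcard ▸ hdvd p hp) with h | h
      · exact h
      · exact absurd ((Nat.prime_dvd_prime_iff_eq (hprime p hp) hr).mp
          ((hprime p hp).dvd_of_dvd_pow (he ▸ h))) (fun h => hrσ (h ▸ hp))
    obtain ⟨p, hp, q, hq, hpq, g, hg⟩ := ih _ hlt (G ⧸ N) rfl σ hσ hprime hdq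
    obtain ⟨g', rfl⟩ := QuotientGroup.mk'_surjective N g
    obtain ⟨h, hh⟩ := exists_orderOf_eq_of_dvd (g := g') (n := p * q)
      (hg ▸ orderOf_map_dvd (QuotientGroup.mk' N) g')
    exact hno p hp q hq hpq h hh

/-- **Lucido**: among three prime divisors of the order of a solvable group two are adjacent. -/
theorem exists_adjacent_pair {G : Type u} [Group G] [Finite G] [Group.IsSolvable G] (σ : Finset ℕ)
    (hσ : 3 ≤ σ.card) (hprime : ∀ p ∈ σ, p.Prime) (hdvd : ∀ p ∈ σ, p ∣ Nat.card G) :
    ∃ p ∈ σ, ∃ q ∈ σ, p ≠ q ∧ ∃ g : G, orderOf g = p * q :=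
  three_primes_aux _ G rfl σ hσ hprime hdvd

end CfsgLib.Spectrum
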