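import Cfsg.Agent.Lib.ElemOrder.Matrix
import Cfsg.Agent.Lib.FormRep.Unitary

/-!
The element orders of `PSU_3(q)` for odd `q`.
-/

set_option autoImplicit false
set_option linter.unusedSectionVars false

namespace CfsgLib.Spectrum.UnitaryThreeOdd

open Matrix Function

/-- The four maximal element orders. -/
def targets (p q : ℕ) : Set ℕ :=
  {q + 1, p * (q + 1) / Nat.gcd 3 (q + 1), (q ^ 2 - 1) / Nat.gcd 3 (q + 1),
    (q ^ 2 - q + 1) / Nat.gcd 3 (q + 1)}

section Arith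

variable (q : ℕ)

theorem gcd_dvd_sq : Nat.gcd 3 (q + 1) ∣ q ^ 2 - 1 :=
  (Nat.gcd_dvd_right 3 (q + 1)).trans ⟨q - 1, by simpa using Nat.sq_sub_sq q 1⟩

theorem N_add (hq : 1 ≤ q) : q ^ 2 - q + 1 + q = q ^ 2 + 1 := by
  have : q ≤ q ^ 2 := Nat.le_self_pow two_ne_zero q
  omega

theorem succ_mul_N (hq : 1 ≤ q) : (q + 1) * (q ^ 2 - q + 1) = q ^ 3 + 1 := by
  have h := N_add q hq
  have h2 := congrArg (fun x => (q + 1) * x) h
  simp only [mul_add] at h2 ⊢
  ring_nf at h2 ⊢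
  omega

theorem sq_mul_N (hq : 1 ≤ q) : (q ^ 2 + q + 1) * (q ^ 2 - q + 1) = q ^ 4 + q ^ 2 + 1 := by
  have h := N_add q hq
  have h2 := congrArg (fun x => (q ^ 2 + q + 1) * x) h
  simp only [mul_add] at h2 ⊢
  ring_nf at h2 ⊢
  omega

theorem gcd_dvd_N (hq : 1 ≤ q) : Nat.gcd 3 (q + 1) ∣ q ^ 2 - q + 1 := by
  have h1 := Nat.gcd_dvd_left 3 (q + 1)
  have h2 := Nat.gcd_dvd_right 3 (q + 1)
  have h : q ^ 2 - q + 1 + 3 * (q + 1) = (q + 1) * (q + 1) + 3 := by
    have h := N_add q hq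
    linarith [sq q]
  exact (Nat.dvd_add_left (h1.mul_right _)).1 (h ▸ dvd_add (h2.mul_right _) h1)

theorem gcd_sq_N_dvd (hq : 1 ≤ q) :
    Nat.gcd (q ^ 2 - 1) (q ^ 2 - q + 1) ∣ Nat.gcd 3 (q + 1) := by
  set g := Nat.gcd (q ^ 2 - 1) (q ^ 2 - q + 1)
  have h0 : q ≤ q ^ 2 := Nat.le_self_pow two_ne_zero q
  have h1 : (g : ℤ) ∣ (q : ℤ) ^ 2 - 1 := by
    have h : (g : ℤ) ∣ ((q ^ 2 - 1 : ℕ) : ℤ) := Int.natCast_dvd_natCast.2 (Nat.gcd_dvd_left _ _)
    rwa [Nat.cast_sub (Nat.one_le_pow _ _ hq), Nat.cast_pow, Nat.cast_one] at h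
  have h2 : (g : ℤ) ∣ (q : ℤ) ^ 2 - q + 1 := by
    have h : (g : ℤ) ∣ ((q ^ 2 - q + 1 : ℕ) : ℤ) := Int.natCast_dvd_natCast.2 (Nat.gcd_dvd_right _ _)
    rwa [Nat.cast_add, Nat.cast_sub h0, Nat.cast_pow, Nat.cast_one] at h
  -- `q * q ≡ 1` and `2 - q ≡ 0`
  have h3 : (g : ℤ) ∣ (q : ℤ) - 2 := by
    have := dvd_sub h1 h2
    ring_nf at this ⊢
    exact this
  have h4 : (g : ℤ) ∣ 3 := by
    have := dvd_sub h1 (h3.mul_right ((q : ℤ) + 2))
    ring_nf at this ⊢
    exact this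
  have h5 : (g : ℤ) ∣ (q : ℤ) + 1 := by
    have := dvd_add h3 h4
    ring_nf at this ⊢
    exact this
  exact Nat.dvd_gcd (by exact_mod_cast h4) (by exact_mod_cast h5)

theorem gcd_dvd_sub_two (hq : 2 ≤ q) : Nat.gcd 3 (q + 1) ∣ q - 2 := by
  have h1 := Nat.gcd_dvd_left 3 (q + 1)
  have h2 : Nat.gcd 3 (q + 1) ∣ (q - 2) + 3 := by
    rw [show q - 2 + 3 = q + 1 by omega]
    exact Nat.gcd_dvd_right 3 (q + 1)
  exact (Nat.dvd_add_left h1).1 h2

/-- `T / d` kills `x` after multiplication by anything divisible by `d`. -/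
theorem dvd_div_mul {T d r : ℕ} (hT : d ∣ T) (hr : d ∣ r) : T ∣ T / d * r := by
  obtain ⟨j, rfl⟩ := hr
  rw [← mul_assoc, Nat.div_mul_cancel hT]
  exact Dvd.intro _ rfl

theorem div_dvd_of {T d k : ℕ} (hT : d ∣ T) (hd : 0 < d) (h : T ∣ d * k) : T / d ∣ k := by
  obtain ⟨j, rfl⟩ := hT
  rw [Nat.mul_div_cancel_left _ hd]
  exact Nat.dvd_of_mul_dvd_mul_left hd h

end Arith

/-! ### Roots -/

section Roots

variable {K : Type*} [Field K] [DecidableEq K] {p q : ℕ}

theorem fix_pow {a : K} (ha : a ≠ 0) (h : (a ^ q)⁻¹ = a) : a ^ (q + 1) = 1 := by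
  rw [pow_succ]
  nth_rw 2 [← h]
  exact mul_inv_cancel₀ (pow_ne_zero _ ha)

theorem fix_sq {a : K} (h : (a ^ q)⁻¹ = a) : a ^ q ^ 2 = a := by
  have h' : a ^ q = a⁻¹ := by rw [← inv_inv (a ^ q), h]
  rw [sq, pow_mul, h', inv_pow, h', inv_inv]

theorem pow_one_of_dvd {a : K} {n m : ℕ} (h : a ^ n = 1) (hd : n ∣ m) : a ^ m = 1 := by
  obtain ⟨j, rfl⟩ := hd
  rw [pow_mul, h, one_pow]

/-- Three distinct roots. -/
def Good (p q : ℕ) (a b c : K) : Prop :=
  ∃ k lam, k ∈ targets p q ∧ lam ^ q ^ 2 = lam ∧ a ^ k = lam ∧ b ^ k = lam ∧ c ^ k = lam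

theorem Good.rot {a b c : K} (h : Good p q a b c) : Good p q b c a := by
  obtain ⟨k, lam, h1, h2, ha, hb, hc⟩ := h
  exact ⟨k, lam, h1, h2, hb, hc, ha⟩

theorem Good.swap {a b c : K} (h : Good p q a b c) : Good p q b a c := by
  obtain ⟨k, lam, h1, h2, ha, hb, hc⟩ := h
  exact ⟨k, lam, h1, h2, hb, ha, hc⟩

theorem good_fix {a b c : K} (ha : a ≠ 0) (hb : b ≠ 0) (hc : c ≠ 0) (h1 : (a ^ q)⁻¹ = a)
    (h2 : (b ^ q)⁻¹ = b) (h3 : (c ^ q)⁻¹ = c) : Good p q a b c :=
  ⟨q + 1, 1, Or.inl rfl, one_pow _, fix_pow ha h1, fix_pow hb h2, fix_pow hc h3⟩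

theorem good_swap (hq : 3 ≤ q) {a b c : K} (ha : a ≠ 0) (h1 : (a ^ q)⁻¹ = b) (h2 : (b ^ q)⁻¹ = a)
    (habc : a * b * c = 1) : Good p q a b c := by
  set d := Nat.gcd 3 (q + 1)
  set k := (q ^ 2 - 1) / d
  have hsq : a ^ q ^ 2 = a := by
    rw [sq, pow_mul]
    rw [← h1, inv_pow, inv_inv] at h2
    exact h2
  have hT : a ^ (q ^ 2 - 1) = 1 := by
    apply mul_left_cancel₀ ha
    rw [← pow_succ', Nat.sub_add_cancel (Nat.one_le_pow _ _ (by omega)), hsq, mul_one]
  have hk1 : a ^ (k * (q + 1)) = 1 :=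
    pow_one_of_dvd hT (dvd_div_mul (gcd_dvd_sq q) (Nat.gcd_dvd_right _ _))
  have hk2 : a ^ (k * (q - 2)) = 1 :=
    pow_one_of_dvd hT (dvd_div_mul (gcd_dvd_sq q) (gcd_dvd_sub_two q (by omega)))
  have hb : b ^ k = a ^ k := by
    rw [← h1, inv_pow, ← pow_mul]
    refine inv_eq_of_mul_eq_one_right ?_
    rw [← pow_add, ← hk1]
    congr 1; ring
  have hc : c = a ^ (q - 1) := by
    have hbz : a * b ≠ 0 := left_ne_zero_of_mul_eq_one habc
    apply mul_left_cancel₀ hbz
    rw [habc, ← h1, mul_comm a, mul_assoc, ← pow_succ', Nat.sub_add_cancel (by omega),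
      inv_mul_cancel₀ (pow_ne_zero _ ha)]
  refine ⟨k, a ^ k, Or.inr (Or.inr (Or.inl rfl)), ?_, rfl, hb, ?_⟩
  · rw [← pow_mul, mul_comm, pow_mul, hsq]
  · rw [hc, ← pow_mul, show (q - 1) * k = k * (q - 2) + k by
      obtain ⟨j, rfl⟩ : ∃ j, q = j + 2 := ⟨q - 2, by omega⟩
      rw [show j + 2 - 1 = j + 1 by omega, show j + 2 - 2 = j by omega]; ring,
      pow_add, hk2, one_mul]

theorem good_cycle (hq : 3 ≤ q) {a b c : K} (ha : a ≠ 0) (h1 : (a ^ q)⁻¹ = b) (h2 : (b ^ q)⁻¹ = c)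
    (h3 : (c ^ q)⁻¹ = a) (habc : a * b * c = 1) : Good p q a b c := by
  set d := Nat.gcd 3 (q + 1)
  set k := (q ^ 2 - q + 1) / d
  have hc : c = a ^ q ^ 2 := by rw [← h2, ← h1, inv_pow, inv_inv, sq, pow_mul]
  have hT : a ^ (q ^ 2 - q + 1) = 1 := by
    apply mul_left_cancel₀ (pow_ne_zero q ha)
    rw [← pow_add, add_comm q, N_add q (by omega), pow_succ, ← hc, mul_one]
    calc c * a = (a * b * c) * a ^ q := by
          rw [← h1]; field_simp
      _ = a ^ q := by rw [habc, one_mul]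
  have hk1 : a ^ (k * (q + 1)) = 1 :=
    pow_one_of_dvd hT (dvd_div_mul (gcd_dvd_N q (by omega)) (Nat.gcd_dvd_right _ _))
  have hk2 : a ^ (k * (q ^ 2 - 1)) = 1 :=
    pow_one_of_dvd hT (dvd_div_mul (gcd_dvd_N q (by omega)) (gcd_dvd_sq q))
  have hb : b ^ k = a ^ k := by
    rw [← h1, inv_pow, ← pow_mul]
    refine inv_eq_of_mul_eq_one_right ?_
    rw [← pow_add, ← hk1]
    congr 1; ring
  have hck : c ^ k = a ^ k := by
    rw [hc, ← pow_mul, show q ^ 2 * k = k * (q ^ 2 - 1) + k by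
      rw [← Nat.mul_succ, Nat.succ_eq_add_one, Nat.sub_add_cancel (Nat.one_le_pow _ _ (by omega)),
        mul_comm],
      pow_add, hk2, one_mul]
  refine ⟨k, a ^ k, Or.inr (Or.inr (Or.inr rfl)), ?_, rfl, hb, hck⟩
  rw [← pow_mul, mul_comm, pow_mul, ← hc, hck]

theorem roots_two (hp : 3 ≤ p) (hinj : Injective fun a : K => (a ^ q)⁻¹) {a b : K} (hab : a ≠ b)
    (ha : a ≠ 0) (hprod : a * a * b = 1)
    (hφ : (({a, a, b} : Multiset K).map fun x => (x ^ q)⁻¹) = {a, a, b}) :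
    ∃ k e lam, 0 < k ∧ k * p ^ e ∈ targets p q ∧ lam ^ q ^ 2 = lam ∧
      (∀ x ∈ ({a, a, b} : Multiset K), x ^ k = lam) ∧
      ∀ x, ({a, a, b} : Multiset K).count x ≤ p ^ e := by
  have hmem : ∀ x ∈ ({a, a, b} : Multiset K), (x ^ q)⁻¹ = a ∨ (x ^ q)⁻¹ = b := fun x hx => by
    have : (x ^ q)⁻¹ ∈ ({a, a, b} : Multiset K) := hφ ▸ Multiset.mem_map_of_mem (fun x => (x ^ q)⁻¹) hx
    simpa using this
  have hA : (a ^ q)⁻¹ = a := by
    rcases hmem a (by simp) with h | h
    · exact h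
    · have hcnt := CfsgLib.ElemOrder.count_map_eq hinj hφ a
      simp only [h] at hcnt
      simp [hab, hab.symm] at hcnt
  have hB : (b ^ q)⁻¹ = b := by
    rcases hmem b (by simp) with h | h
    · exact absurd (hinj (h.trans hA.symm)) hab.symm
    · exact h
  set d := Nat.gcd 3 (q + 1)
  have hd : d ∣ q + 1 := Nat.gcd_dvd_right _ _
  refine ⟨(q + 1) / d, 1, a ^ ((q + 1) / d), ?_, ?_, ?_, ?_, ?_⟩
  · exact Nat.div_pos (Nat.le_of_dvd (by omega) hd) (Nat.gcd_pos_of_pos_left _ (by omega))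
  · rw [pow_one, mul_comm, ← Nat.mul_div_assoc _ hd]
    exact Or.inr (Or.inl rfl)
  · rw [← pow_mul, mul_comm, pow_mul, fix_sq hA]
  · intro x hx
    rcases (by simpa using hx : x = a ∨ x = b) with rfl | rfl
    · rfl
    · have h3 : a ^ ((q + 1) / d * 3) = 1 :=
        pow_one_of_dvd (fix_pow ha hA) (dvd_div_mul hd (Nat.gcd_dvd_left _ _))
      rw [eq_inv_of_mul_eq_one_right hprod, inv_pow]
      refine inv_eq_of_mul_eq_one_right ?_
      rw [← h3, pow_mul, mul_pow]
      ring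
  · intro x
    rw [pow_one]
    refine le_trans ?_ hp
    simpa using Multiset.count_le_card x ({a, a, b} : Multiset K)

/-- Exponents for three eigenvalues permuted by `a ↦ a^(-q)` with product one. -/
theorem roots_three (hp : 3 ≤ p) (hq : 3 ≤ q) (hinj : Injective fun a : K => (a ^ q)⁻¹)
    (R : Multiset K) (hcard : R.card = 3) (h0 : (0 : K) ∉ R) (hprod : R.prod = 1)
    (hφ : (R.map fun a => (a ^ q)⁻¹) = R) :
    ∃ k e lam, 0 < k ∧ (∃ T ∈ targets p q, k * p ^ e ∣ T) ∧ lam ^ q ^ 2 = lam ∧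
      (∀ x ∈ R, x ^ k = lam) ∧ ∀ x, R.count x ≤ p ^ e := by
  obtain ⟨a, b, c, rfl⟩ := Multiset.card_eq_three.1 hcard
  have ha : a ≠ 0 := fun h => h0 (by simp [h])
  have hb : b ≠ 0 := fun h => h0 (by simp [h])
  have hc : c ≠ 0 := fun h => h0 (by simp [h])
  have habc : a * b * c = 1 := by simpa [mul_assoc] using hprod
  have two : ∀ x y : K, x ≠ y → x ≠ 0 → x * x * y = 1 →
      ({a, b, c} : Multiset K) = {x, x, y} →
      ∃ k e lam, 0 < k ∧ (∃ T ∈ targets p q, k * p ^ e ∣ T) ∧ lam ^ q ^ 2 = lam ∧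
        (∀ z ∈ ({a, b, c} : Multiset K), z ^ k = lam) ∧
        ∀ z, ({a, b, c} : Multiset K).count z ≤ p ^ e := by
    intro x y hxy hx hxyp he
    rw [he] at hφ ⊢
    obtain ⟨k, e, lam, hk, hT, h⟩ := roots_two hp hinj hxy hx hxyp hφ
    exact ⟨k, e, lam, hk, ⟨_, hT, dvd_rfl⟩, h⟩
  by_cases hab : a = b
  · subst hab
    by_cases hac : a = c
    · subst hac
      have hA : (a ^ q)⁻¹ = a := by
        have : (a ^ q)⁻¹ ∈ ({a, a, a} : Multiset K) :=
          hφ ▸ Multiset.mem_map_of_mem (fun x => (x ^ q)⁻¹) (show a ∈ ({a, a, a} : Multiset K) by simp)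
        simpa using this
      refine ⟨1, 1, a, one_pos, ⟨_, Or.inr (Or.inl rfl), ?_⟩, fix_sq hA, ?_, ?_⟩
      · rw [one_mul, pow_one, Nat.mul_div_assoc _ (Nat.gcd_dvd_right _ _)]
        exact Dvd.intro _ rfl
      · intro x hx
        rw [pow_one]
        simpa using hx
      · intro x
        rw [pow_one]
        refine le_trans ?_ hp
        simpa using Multiset.count_le_card x ({a, a, a} : Multiset K)
    · exact two a c hac ha habc rfl
  by_cases hac : a = c
  · subst hac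
    exact two a b hab ha (by linear_combination habc) (by
      exact congrArg (a ::ₘ ·) (Multiset.pair_comm b a))
  by_cases hbc : b = c
  · subst hbc
    exact two b a (Ne.symm hab) hb (by linear_combination habc) (by
      simp only [Multiset.insert_eq_cons]
      rw [Multiset.cons_swap a b, ← Multiset.singleton_add b, ← Multiset.singleton_add b]
      congr 1; exact Multiset.cons_swap a b 0)
  have hmem : ∀ x ∈ ({a, b, c} : Multiset K),
      (x ^ q)⁻¹ = a ∨ (x ^ q)⁻¹ = b ∨ (x ^ q)⁻¹ = c := fun x hx => by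
    have : (x ^ q)⁻¹ ∈ ({a, b, c} : Multiset K) := hφ ▸ Multiset.mem_map_of_mem (fun x => (x ^ q)⁻¹) hx
    simpa using this
  obtain ⟨k, lam, hk, hlam, hka, hkb, hkc⟩ : Good p q a b c := by
    rcases hmem a (by simp) with hA | hA | hA <;> rcases hmem b (by simp) with hB | hB | hB <;>
      rcases hmem c (by simp) with hC | hC | hC
    all_goals first
      | exact absurd (hinj (hA.trans hB.symm)) hab
      | exact absurd (hinj (hA.trans hC.symm)) hac
      | exact absurd (hinj (hB.trans hC.symm)) hbc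
      | exact good_fix ha hb hc hA hB hC
      | exact good_swap hq ha hA hB habc
      | exact (good_swap hq hb hB hC (by linear_combination habc)).rot.rot
      | exact (good_swap hq hc hC hA (by linear_combination habc)).rot
      | exact good_cycle hq ha hA hB hC habc
      | exact ((good_cycle hq hb hB hA hC (by linear_combination habc))).swap
  have hkpos : 0 < k := by
    have hd : 0 < Nat.gcd 3 (q + 1) := Nat.gcd_pos_of_pos_left _ (by omega)
    rcases hk with rfl | rfl | rfl | rfl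
    · omega
    · exact Nat.div_pos ((Nat.le_of_dvd (by omega) (Nat.gcd_dvd_right _ _)).trans
        (Nat.le_mul_of_pos_left _ (by omega))) hd
    · have : 1 < q ^ 2 := by nlinarith
      exact Nat.div_pos (Nat.le_of_dvd (by omega) (gcd_dvd_sq q)) hd
    · exact Nat.div_pos (Nat.le_of_dvd (by omega) (gcd_dvd_N q (by omega))) hd
  refine ⟨k, 0, lam, hkpos, ⟨k, hk, by simp⟩, hlam, ?_, ?_⟩
  · intro x hx
    rcases (by simpa using hx : x = a ∨ x = b ∨ x = c) with rfl | rfl | rfl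
    exacts [hka, hkb, hkc]
  · intro x
    rw [pow_zero]
    refine Multiset.nodup_iff_count_le_one.1 ?_ x
    simp [hab, hac, hbc]

end Roots

/-! ### The group -/

variable {F : Type*} [Field F] [Fintype F]

theorem exists_pow_prime (p : ℕ) [hp : Fact p.Prime] [CharP F p] (q : ℕ)
    (hF : Fintype.card F = q ^ 2) : ∃ s, 1 ≤ s ∧ q = p ^ s := by
  obtain ⟨n, -, hn⟩ := FiniteField.card F p
  obtain ⟨s, -, hs⟩ := (Nat.dvd_prime_pow hp.out).1 (show q ∣ p ^ (n : ℕ) from hn ▸ hF ▸ dvd_pow_self q two_ne_zero)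
  refine ⟨s, ?_, hs⟩
  rcases Nat.eq_zero_or_pos s with rfl | h
  · have := Fintype.one_lt_card (α := F)
    simp [hF, hs] at this
  · exact h

theorem upper (p : ℕ) [hp : Fact p.Prime] [CharP F p] (hp2 : p ≠ 2) {q s : ℕ} (hs : 1 ≤ s)
    (hq : q = p ^ s) (hF : Fintype.card F = q ^ 2) (σ : F ≃+* F) (hσq : ∀ c, σ c = c ^ q)
    (hσ : ∀ c, σ (σ c) = c) (x : Cfsg.PSU 3 F q) : ∃ T ∈ targets p q, orderOf x ∣ T := by
  classical
  obtain ⟨g, rfl⟩ := QuotientGroup.mk'_surjective _ x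
  set W := CfsgLib.FormRep.Unitary.model (le_refl 3) hF σ hσq hσ with hW
  set M := W.toMat g with hM
  obtain ⟨hiso, hdet⟩ := W.isom g
  have hM0 : M.det ≠ 0 := by rw [hdet]; exact one_ne_zero
  have hp3 : 3 ≤ p := by have := hp.out.two_le; omega
  have hq3 : 3 ≤ q := hp3.trans (hq ▸ Nat.le_self_pow (by omega) p)
  have hfix : (M.map σ.toRingHom).charpoly = (M⁻¹).charpoly := by
    rw [Matrix.inv_eq_left_inv hiso]
    exact (Matrix.charpoly_transpose _).symm
  have hinj : Injective fun a : AlgebraicClosure F => (a ^ q)⁻¹ := by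
    subst hq
    exact CfsgLib.ElemOrder.twist_injective_closure p s
  obtain ⟨k, e, lam, hk, ⟨T, hT, hdvd⟩, hlam, hroot, hcount⟩ := roots_three hp3 hq3 hinj
    (CfsgLib.ElemOrder.croots M) (by rw [CfsgLib.ElemOrder.croots_card, Fintype.card_fin])
    (CfsgLib.ElemOrder.zero_notMem_croots hM0)
    (by rw [CfsgLib.ElemOrder.croots_prod, hdet, map_one]) (by
      have h : (CfsgLib.ElemOrder.croots M).map (fun a => a ^ q) =
          (CfsgLib.ElemOrder.croots M).map fun a => a⁻¹ := by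
        subst hq
        rw [CfsgLib.ElemOrder.croots_pow p s M σ.toRingHom hσq, ← CfsgLib.ElemOrder.croots_inv hM0,
          CfsgLib.ElemOrder.croots, CfsgLib.ElemOrder.croots, hfix]
      have h2 := congrArg (Multiset.map fun a => a⁻¹) h
      simpa [Multiset.map_map, Function.comp_def] using h2)
  obtain ⟨r, hr⟩ := CfsgLib.ElemOrder.exists_algebraMap_of_pow_card lam (by rw [hF, hlam])
  have hpow := CfsgLib.ElemOrder.pow_eq_scalar p M hk r (fun a ha => by rw [hroot a ha, hr]) hcount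
  refine ⟨T, hT, (orderOf_dvd_of_pow_eq_one ?_).trans hdvd⟩
  rw [← map_pow]
  exact (W.proj_eq_one_iff _).2 ⟨r ^ p ^ e, by
    rw [map_pow, ← hM, hpow, Matrix.scalar_apply, Matrix.smul_one_eq_diagonal]⟩

/-! #### Explicit elements -/

section Matrices

/-- The eigenvalues `z, z, z⁻²` with a transvection. -/
def mB (σ : F ≃+* F) (e z c : F) : Matrix (Fin 3) (Fin 3) F :=
  !![z * (1 + c), z * c * σ e, 0; z * c * e, z * (1 - c), 0; 0, 0, (z ^ 2)⁻¹]

/-- The eigenvalues `s, t` on a hyperbolic pair and `r` on its complement. -/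
def mC (e s t r : F) : Matrix (Fin 3) (Fin 3) F :=
  !![(s + t) / 2, (s - t) / (2 * e), 0; e * (s - t) / 2, (s + t) / 2, 0; 0, 0, r]

theorem mB_pow (σ : F ≃+* F) (e z c : F) (he : σ e * e = -1) (k : ℕ) :
    mB σ e z c ^ k = mB σ e (z ^ k) (k * c) := by
  induction k with
  | zero => simp [mB, Matrix.one_fin_three]
  | succ k ih =>
    rw [pow_succ, ih]
    ext i j
    fin_cases i <;> fin_cases j <;>
      simp [mB, Matrix.mul_apply, Fin.sum_univ_three, pow_succ, mul_pow, mul_inv]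
    · linear_combination (z ^ k * z * (k * c) * c) * he
    · ring
    · ring
    · linear_combination (z ^ k * z * (k * c) * c) * he
    all_goals ring

theorem mC_pow (e s t r : F) (he : e ≠ 0) (h2 : (2 : F) ≠ 0) (k : ℕ) :
    mC e s t r ^ k = mC e (s ^ k) (t ^ k) (r ^ k) := by
  induction k with
  | zero =>
    ext i j
    fin_cases i <;> fin_cases j <;> simp [mC, Matrix.one_apply]
    all_goals field_simp
    all_goals ring
  | succ k ih =>
    rw [pow_succ, ih]
    ext i j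
    fin_cases i <;> fin_cases j <;>
      simp [mC, Matrix.mul_apply, Fin.sum_univ_three, pow_succ]
    all_goals field_simp
    all_goals ring

end Matrices

theorem lower (p : ℕ) [hp : Fact p.Prime] [CharP F p] (hp2 : p ≠ 2) {q s : ℕ} (hs : 1 ≤ s)
    (hq : q = p ^ s) (hF : Fintype.card F = q ^ 2) (σ : F ≃+* F) (hσq : ∀ c, σ c = c ^ q)
    (hσ : ∀ c, σ (σ c) = c) {T : ℕ} (hT : T ∈ targets p q) :
    ∃ x : Cfsg.PSU 3 F q, T ∣ orderOf x := by
  classical
  have hp3 : 3 ≤ p := by have := hp.out.two_le; omega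
  have hq3 : 3 ≤ q := hp3.trans (hq ▸ Nat.le_self_pow (by omega) p)
  have hq2 : 1 ≤ q ^ 2 := Nat.one_le_pow _ _ (by omega)
  have hqo : Odd q := hq ▸ (hp.out.odd_of_ne_two hp2).pow
  have hsq : (q + 1) * (q - 1) = q ^ 2 - 1 := by simpa using (Nat.sq_sub_sq q 1).symm
  set d := Nat.gcd 3 (q + 1) with hd
  have hd0 : 0 < d := Nat.gcd_pos_of_pos_left _ (by omega)
  have h2 : (2 : F) ≠ 0 := Ring.two_ne_zero (by rwa [ringChar.eq F p])
  set W := CfsgLib.FormRep.Unitary.model (le_refl 3) hF σ hσq hσ with hW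
  -- scalar powers of an element
  have key : ∀ A : Matrix (Fin 3) (Fin 3) F, (A.map σ)ᵀ * A = 1 → A.det = 1 →
      (∀ k, (∃ c : F, A ^ k = c • 1) → T ∣ k) → ∃ x : Cfsg.PSU 3 F q, T ∣ orderOf x := by
    intro A hA hdet h
    obtain ⟨g, hg⟩ := W.mem A hA hdet
    refine ⟨CfsgLib.FormRep.Model.proj g, h _ ?_⟩
    obtain ⟨c, hc⟩ := (W.proj_eq_one_iff _).1 ((map_pow CfsgLib.FormRep.Model.proj g
      (orderOf (CfsgLib.FormRep.Model.proj g))).trans (pow_orderOf_eq_one _))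
    exact ⟨c, by rw [← hc, map_pow, hg]⟩
  -- a generator of the multiplicative group
  obtain ⟨u', hu'⟩ := IsCyclic.exists_generator (α := Fˣ)
  have hu'o : orderOf u' = q ^ 2 - 1 := by
    rw [orderOf_eq_card_of_forall_mem_zpowers hu', Nat.card_units, Nat.card_eq_fintype_card, hF]
  set u : F := (u' : F)
  have huo : orderOf u = q ^ 2 - 1 := by rw [orderOf_units, hu'o]
  have hu0 : u ≠ 0 := u'.ne_zero
  have hone : ∀ m, u ^ m = 1 → q ^ 2 - 1 ∣ m := fun m hm => huo ▸ orderOf_dvd_of_pow_eq_one hm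
  have hne : σ ≠ RingEquiv.refl F := fun h => by
    have h1 : u ^ q = u := by rw [← hσq, h]; rfl
    have h2 : u ^ (q - 1) = 1 := by
      apply mul_left_cancel₀ hu0
      rw [← pow_succ', Nat.sub_add_cancel (by omega), h1, mul_one]
    have := Nat.le_of_dvd (by omega) (hone _ h2)
    nlinarith [Nat.sub_add_cancel hq2, Nat.sub_add_cancel (show 1 ≤ q by omega)]
  have hneg : ∀ m, 2 * m = q ^ 2 - 1 → u ^ m = -1 := by
    intro m hm
    have h1 : u ^ m * u ^ m = 1 := by
      rw [← pow_add, ← two_mul, hm, ← huo, pow_orderOf_eq_one]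
    refine (mul_self_eq_one_iff.1 h1).resolve_left fun h => ?_
    have h9 : 9 ≤ q ^ 2 := by nlinarith
    have := Nat.le_of_dvd (by omega) (hone m h)
    omega
  obtain ⟨i, hi⟩ := hqo
  set e := u ^ i with he'
  set c := u ^ (i + 1) with hc'
  have he : σ e * e = -1 := by
    rw [hσq, ← pow_succ, he', ← pow_mul]
    apply hneg
    rw [← hsq, show q - 1 = 2 * i by omega]
    ring
  have hc : σ c = -c := by
    rw [hσq, show q = (q - 1) + 1 by omega, pow_succ, hc', ← pow_mul, hneg, neg_one_mul]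
    rw [← hsq, show q + 1 = 2 * (i + 1) by omega]
    ring
  have he0 : e ≠ 0 := pow_ne_zero _ hu0
  have hc0 : c ≠ 0 := pow_ne_zero _ hu0
  have hσe : σ e = -e⁻¹ := by
    rw [← mul_right_inj' he0]; rw [mul_comm, he, mul_neg, mul_inv_cancel₀ he0]
  set z := u ^ (q - 1) with hz'
  have hzo : orderOf z = q + 1 := by
    rw [hz', orderOf_pow_of_dvd (by omega) (huo ▸ Dvd.intro_left _ hsq), huo, ← hsq,
      Nat.mul_div_cancel _ (by omega)]
  have hz : σ z * z = 1 := by rw [hσq, ← pow_succ, ← hzo, pow_orderOf_eq_one]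
  have hz0 : z ≠ 0 := pow_ne_zero _ hu0
  rcases hT with rfl | rfl | rfl | rfl
  · -- `q + 1`
    refine key (Matrix.diagonal ![z, z⁻¹, 1]) ?_ ?_ ?_
    · rw [Matrix.diagonal_map (map_zero σ), Matrix.diagonal_transpose,
        Matrix.diagonal_mul_diagonal, ← Matrix.diagonal_one]
      congr 1
      funext j
      fin_cases j
      · exact hz
      · simp only [Function.comp_apply]
        show σ z⁻¹ * z⁻¹ = 1
        rw [map_inv₀, ← mul_inv, hz, inv_one]
      · simp
    · simp [Matrix.det_diagonal, Fin.prod_univ_three, hz0]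
    · rintro k ⟨a, ha⟩
      rw [Matrix.diagonal_pow] at ha
      have h0 := congrFun (congrFun ha 0) 0
      have h3 := congrFun (congrFun ha 2) 2
      simp at h0 h3
      rw [← hzo]
      exact orderOf_dvd_of_pow_eq_one (h0.trans h3.symm)
  · -- `p (q + 1) / d`
    refine key (mB σ e z c) ?_ ?_ ?_
    · ext i j
      fin_cases i <;> fin_cases j <;>
        simp [mB, Matrix.mul_apply, Fin.sum_univ_three, hc, hσ]
      · linear_combination (z * σ z * c * c) * (-he) + (1 : F) * hz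
      · linear_combination (0 : F)
      · linear_combination (0 : F)
      · linear_combination (z * σ z * c * c) * (-he) + (1 : F) * hz
      · rw [← mul_inv, ← mul_pow, hz, one_pow, inv_one]
    · simp [mB, Matrix.det_fin_three]
      field_simp
      linear_combination (-c ^ 2) * he
    · rintro k ⟨a, ha⟩
      rw [mB_pow σ e z c he] at ha
      have h0 := congrFun (congrFun ha 0) 0
      have h1 := congrFun (congrFun ha 1) 0
      have h3 := congrFun (congrFun ha 2) 2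
      simp [mB] at h0 h1 h3
      have hkp : (k : F) = 0 := by
        simpa [hz0, hc0, he0] using h1
      have hpk : p ∣ k := (CharP.cast_eq_zero_iff F p k).1 hkp
      rw [hkp, zero_mul, add_zero, mul_one] at h0
      have h3k : q + 1 ∣ 3 * k := by
        rw [← hzo]
        apply orderOf_dvd_of_pow_eq_one
        have h4 : (z ^ k) ^ 2 * z ^ k = 1 := by
          nth_rw 2 [h0.trans h3.symm]
          exact mul_inv_cancel₀ (pow_ne_zero _ (pow_ne_zero _ hz0))
        linear_combination h4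
      have hdk : (q + 1) / d ∣ k := by
        have h5 : q + 1 ∣ d * k := by
          rw [hd, ← Nat.gcd_mul_right]
          exact Nat.dvd_gcd h3k (Dvd.intro _ rfl)
        exact div_dvd_of (Nat.gcd_dvd_right _ _) hd0 h5
      rw [Nat.mul_div_assoc _ (Nat.gcd_dvd_right 3 (q + 1))]
      refine Nat.Coprime.mul_dvd_of_dvd_of_dvd ?_ hpk hdk
      refine (Nat.Coprime.coprime_dvd_right (Nat.div_dvd_of_dvd (Nat.gcd_dvd_right 3 (q + 1))) ?_)
      rw [Nat.Prime.coprime_iff_not_dvd hp.out]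
      intro h
      have : p ∣ q := hq ▸ dvd_pow_self p (by omega)
      exact hp.out.not_dvd_one ((Nat.dvd_add_right this).1 h)
  · -- `(q² - 1) / d`
    have hub : σ u * (u ^ q)⁻¹ = 1 := by rw [hσq, mul_inv_cancel₀ (pow_ne_zero _ hu0)]
    have hub' : σ (u ^ q)⁻¹ * u = 1 := by
      rw [map_inv₀, map_pow, hσq, ← pow_mul, ← sq, ← hF, FiniteField.pow_card, inv_mul_cancel₀ hu0]
    have hr : σ (u ^ (q - 1)) * u ^ (q - 1) = 1 := hz
    refine key (mC e u (u ^ q)⁻¹ (u ^ (q - 1))) ?_ ?_ ?_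
    · generalize (u ^ q)⁻¹ = t at hub hub'
      generalize u ^ (q - 1) = r at hr
      ext i j
      fin_cases i <;> fin_cases j <;>
        simp [mC, Matrix.mul_apply, Fin.sum_univ_three, map_div₀, map_ofNat, hσe, hr]
      all_goals field_simp
      · linear_combination 2 * hub + 2 * hub'
      · linear_combination 2 * hub' - 2 * hub
      · linear_combination 2 * e * hub' - 2 * e * hub
      · linear_combination 2 * hub + 2 * hub'
    · simp [mC, Matrix.det_fin_three]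
      field_simp
      have h1 : u ^ q = u * u ^ (q - 1) := by rw [← pow_succ', Nat.sub_add_cancel (by omega)]
      linear_combination (-4 * u ^ q) * h1
    · rintro k ⟨a, ha⟩
      rw [mC_pow e _ _ _ he0 h2] at ha
      have h0 := congrFun (congrFun ha 0) 0
      have h1 := congrFun (congrFun ha 1) 0
      have h3 := congrFun (congrFun ha 2) 2
      simp [mC, he0, h2, sub_eq_zero] at h0 h1 h3
      rw [← h1, ← two_mul, mul_div_cancel_left₀ _ h2] at h0
      have ht : u ^ (k * (q + 1)) = 1 := by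
        rw [mul_add, pow_add, mul_one, mul_comm k q, pow_mul, h1,
          mul_inv_cancel₀ (pow_ne_zero _ (pow_ne_zero _ hu0))]
      have hr' : u ^ (k * (q - 2)) = 1 := by
        apply mul_left_cancel₀ (pow_ne_zero k hu0)
        rw [← pow_add, mul_one]
        refine Eq.trans ?_ (h3.trans h0.symm)
        rw [← pow_mul]
        congr 1
        obtain ⟨j, rfl⟩ : ∃ j, q = j + 2 := ⟨q - 2, by omega⟩
        rw [show j + 2 - 1 = j + 1 by omega, show j + 2 - 2 = j by omega]; ring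
      have hg : q ^ 2 - 1 ∣ k * Nat.gcd (q + 1) (q - 2) := by
        rw [← Nat.gcd_mul_left]
        exact Nat.dvd_gcd (hone _ ht) (hone _ hr')
      have hg2 : Nat.gcd (q + 1) (q - 2) ∣ d := by
        refine Nat.dvd_gcd ?_ (Nat.gcd_dvd_left _ _)
        have h := Nat.dvd_sub (Nat.gcd_dvd_left (q + 1) (q - 2)) (Nat.gcd_dvd_right (q + 1) (q - 2))
        rwa [show q + 1 - (q - 2) = 3 by omega] at h
      exact div_dvd_of (gcd_dvd_sq q) hd0
        (hg.trans ((Nat.mul_dvd_mul_left k hg2).trans (by rw [mul_comm])))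
  · -- `(q² - q + 1) / d`
    have : Fact p.Prime := hp
    let L := FiniteField.Extension F p 3
    have hfr : Module.finrank F L = 3 := FiniteField.finrank_extension F p 3
    obtain ⟨τ, hτ⟩ := CfsgLib.FormRep.exists_powEquiv (F := F) L p hp.out (s * 3)
    have hτq : ∀ y : L, τ y = y ^ q ^ 3 := fun y => by rw [hq, ← pow_mul]; exact hτ y
    have hσ2 : ∀ x : F, x ^ q ^ 2 = x := fun x => hF ▸ FiniteField.pow_card x
    have hτF : ∀ a : F, τ (algebraMap F L a) = algebraMap F L (σ a) := fun a => by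
      rw [hτq, hσq, ← map_pow, pow_succ q 2, pow_mul, hσ2]
    have hcL : Nat.card L = (q ^ 2) ^ 3 := by
      rw [FiniteField.natCard_extension F p 3, Nat.card_eq_fintype_card, hF]
    have : Fintype L := Fintype.ofFinite L
    have hτ2 : ∀ y : L, τ (τ y) = y := fun y => by
      rw [hτq, hτq, ← pow_mul, show q ^ 3 * q ^ 3 = (q ^ 2) ^ 3 by ring, ← hcL,
        Nat.card_eq_fintype_card]
      exact FiniteField.pow_card y
    obtain ⟨D, hD⟩ := CfsgLib.FormRep.Dat.exists_field (σ := σ) (ε := (1 : F)) hσ (one_mul 1)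
      (map_one σ) τ hτ2 hτF ⟨1, 1, by
        rw [map_one, map_one, one_mul, ← add_smul, Ne, smul_eq_zero]
        simp [show (1 : F) + 1 ≠ 0 by rw [one_add_one_eq_two]; exact h2]⟩
    obtain ⟨Φ, hΦ, hbar⟩ := CfsgLib.FormRep.exists_rep_unitary hσ hne D (n := 3) hfr
    obtain ⟨v', hv'⟩ := IsCyclic.exists_generator (α := Lˣ)
    set v : L := (v' : L)
    have hvo : orderOf v = (q ^ 2) ^ 3 - 1 := by
      rw [orderOf_units, orderOf_eq_card_of_forall_mem_zpowers hv', Nat.card_units, hcL]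
    set N := q ^ 2 - q + 1
    set m := (q ^ 2 - 1) * (q ^ 2 + q + 1)
    have hmN : m * N = (q ^ 2) ^ 3 - 1 := by
      show (q ^ 2 - 1) * (q ^ 2 + q + 1) * (q ^ 2 - q + 1) = _
      rw [mul_assoc, sq_mul_N q (by omega)]
      obtain ⟨j, hj⟩ : ∃ j, q ^ 2 = j + 1 := ⟨q ^ 2 - 1, by omega⟩
      rw [show q ^ 4 = (q ^ 2) ^ 2 by ring, hj, Nat.add_sub_cancel]
      refine Nat.eq_sub_of_add_eq ?_
      ring
    set w := v ^ m with hw
    have hm0 : 0 < m := by
      have h9 : 9 ≤ q ^ 2 := (by norm_num : 9 ≤ 3 ^ 2).trans (Nat.pow_le_pow_left hq3 2)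
      exact Nat.mul_pos (by omega) (by omega)
    have hwo : orderOf w = N := by
      rw [hw, orderOf_pow_of_dvd hm0.ne' (hvo ▸ Dvd.intro _ hmN), hvo, ← hmN,
        Nat.mul_div_cancel_left _ hm0]
    have hu : D.bar w * w = 1 := by
      rw [hD, hτq, ← pow_succ, ← succ_mul_N q (by omega)]
      exact orderOf_dvd_iff_pow_eq_one.1 (hwo ▸ Dvd.intro_left _ rfl)
    have hdet : (Φ w).det = 1 := by
      have hv0 : (Φ v).det ≠ 0 := by
        intro h
        have := congrArg Matrix.det (show Φ v * Φ v⁻¹ = 1 by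
          rw [← map_mul, mul_inv_cancel₀ v'.ne_zero, map_one])
        rw [Matrix.det_mul, h, zero_mul, Matrix.det_one] at this
        exact zero_ne_one this
      rw [hw, map_pow, Matrix.det_pow, pow_mul, ← hF, FiniteField.pow_card_sub_one_eq_one _ hv0,
        one_pow]
    refine key (Φ w) ?_ hdet ?_
    · show (CfsgLib.FormRep.adjU σ hσ (Fin 3)).ad (Φ w) * Φ w = 1
      rw [hbar, ← map_mul, hu, map_one]
    · rintro k ⟨a, ha⟩
      have hwk : w ^ k = algebraMap F L a := hΦ (by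
        rw [map_pow, ha, AlgHom.commutes, Algebra.algebraMap_eq_smul_one])
      have hd1 : N ∣ k * (q ^ 2 - 1) := by
        rw [← hwo]
        apply orderOf_dvd_of_pow_eq_one
        have hw0 : w ≠ 0 := pow_ne_zero _ v'.ne_zero
        have ha0 : a ≠ 0 := fun h => pow_ne_zero k hw0 (by rw [hwk, h, map_zero])
        rw [pow_mul, hwk, ← map_pow, ← hF, FiniteField.pow_card_sub_one_eq_one _ ha0, map_one]
      have hd2 : N ∣ k * Nat.gcd (q ^ 2 - 1) N := by
        rw [← Nat.gcd_mul_left]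
        exact Nat.dvd_gcd hd1 (Dvd.intro_left _ rfl)
      exact div_dvd_of (gcd_dvd_N q (by omega)) hd0
        (hd2.trans ((Nat.mul_dvd_mul_left k (gcd_sq_N_dvd q (by omega))).trans (by rw [mul_comm])))

theorem range_orderOf (p : ℕ) [hp : Fact p.Prime] [CharP F p] (hp2 : p ≠ 2) (q : ℕ)
    (hF : Fintype.card F = q ^ 2) :
    Set.range (orderOf : Cfsg.PSU 3 F q → ℕ) = {t : ℕ | ∃ T ∈ targets p q, t ∣ T} := by
  classical
  obtain ⟨s, hs, hq⟩ := exists_pow_prime p q hF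
  obtain ⟨σ, hσq⟩ : ∃ σ : F ≃+* F, ∀ c, σ c = c ^ q := by
    obtain ⟨τ, hτ⟩ := CfsgLib.FormRep.exists_powEquiv (F := F) F p hp.out s
    exact ⟨τ, fun c => by rw [hτ, hq]⟩
  have hσ : ∀ c, σ (σ c) = c := fun c => by
    rw [hσq, hσq, ← pow_mul, ← sq, ← hF, FiniteField.pow_card]
  ext t
  constructor
  · rintro ⟨x, rfl⟩
    exact upper p hp2 hs hq hF σ hσq hσ x
  · rintro ⟨T, hT, htT⟩
    obtain ⟨x, hx⟩ := lower p hp2 hs hq hF σ hσq hσ hT
    exact CfsgLib.FormRep.exists_order_of_dvd x (orderOf_pos x) (htT.trans hx)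

end CfsgLib.Spectrum.UnitaryThreeOdd
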