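import Mathlib
import Cfsg.Agent.Lib.SL2.Facts

/-!
The element orders of the projective general linear group of degree two over a finite field.
-/

set_option autoImplicit false
set_option linter.style.haveILetI false

namespace CfsgLib.SpectrumPGL

open Matrix Polynomial

variable {F : Type*} [Field F]

local notation "M2" => Matrix (Fin 2) (Fin 2) F
local notation "PGL" => GL (Fin 2) F ⧸ Subgroup.center (GL (Fin 2) F)

theorem mk_eq_one_of_scalar (g : GL (Fin 2) F) (c : F) (h : (g : M2) = c • 1) : (g : PGL) = 1 := by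
  refine (QuotientGroup.eq_one_iff _).mpr (Subgroup.mem_center_iff.mpr fun x => Units.ext ?_)
  simp [h]

theorem scalar_of_mem_center (g : GL (Fin 2) F) (h : g ∈ Subgroup.center (GL (Fin 2) F)) :
    ¬ CfsgLib.SL2.NonScalar (g : M2) := by
  intro hn
  rw [CfsgLib.SL2.nonScalar_iff] at hn
  have key : ∀ u : GL (Fin 2) F, (u : M2) * (g : M2) = (g : M2) * (u : M2) := fun u =>
    congrArg Units.val (Subgroup.mem_center_iff.mp h u)
  have e1 := key (GeneralLinearGroup.mkOfDetNeZero !![1, 1; 0, 1] (by simp [Matrix.det_fin_two]))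
  have e2 := key (GeneralLinearGroup.mkOfDetNeZero !![1, 0; 1, 1] (by simp [Matrix.det_fin_two]))
  have a1 := congrFun (congrFun e1 0) 0
  have a2 := congrFun (congrFun e1 0) 1
  have a3 := congrFun (congrFun e2 0) 0
  simp [Matrix.GeneralLinearGroup.mkOfDetNeZero, Matrix.mul_apply, Fin.sum_univ_two] at a1 a2 a3
  rcases hn with hh | hh | hh
  · exact hh a3
  · exact hh a1
  · exact hh (by linear_combination -a2)

/-- In a field of order `q²` the `q+1`-th power of a unit lies in the subfield of order `q`. -/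
theorem pow_succ_mem_range [Finite F] {K : Type*} [Field K] [Finite K] (i : F →+* K)
    (hK : Nat.card K = Nat.card F ^ 2) (z : K) (hz : z ≠ 0) :
    ∃ c : F, z ^ (Nat.card F + 1) = i c := by
  classical
  have := Fintype.ofFinite F
  have := Fintype.ofFinite K
  simp only [Nat.card_eq_fintype_card] at hK ⊢
  set q := Fintype.card F
  have hq : 1 < q := Fintype.one_lt_card
  set w := z ^ (q + 1) with hw
  have hw1 : w ^ (q - 1) = 1 := by
    rw [hw, ← pow_mul, show (q + 1) * (q - 1) = Fintype.card K - 1 by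
      rw [hK, ← Nat.sq_sub_sq, one_pow], FiniteField.pow_card_sub_one_eq_one z hz]
  have hsub : (Finset.univ.erase (0 : F)).image i ⊆ (Polynomial.nthRoots (q - 1) (1 : K)).toFinset := by
    intro y hy
    obtain ⟨c, hc, rfl⟩ := Finset.mem_image.mp hy
    rw [Multiset.mem_toFinset, Polynomial.mem_nthRoots (by omega), ← map_pow,
      FiniteField.pow_card_sub_one_eq_one c (Finset.ne_of_mem_erase hc), map_one]
  have heq := Finset.eq_of_subset_of_card_le hsub (by
    rw [Finset.card_image_of_injective _ i.injective, Finset.card_erase_of_mem (Finset.mem_univ _),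
      Finset.card_univ]
    exact (Multiset.toFinset_card_le _).trans (Polynomial.card_nthRoots _ _))
  have hmem : w ∈ (Polynomial.nthRoots (q - 1) (1 : K)).toFinset := by
    rw [Multiset.mem_toFinset, Polynomial.mem_nthRoots (by omega)]
    exact hw1
  rw [← heq] at hmem
  obtain ⟨c, -, hc⟩ := Finset.mem_image.mp hmem
  exact ⟨c, hc.symm⟩

theorem pow_idem (M e : M2) (a b : F) (he : e * e = e) (hM : M = a • e + b • (1 - e)) (k : ℕ) :
    M ^ k = a ^ k • e + b ^ k • (1 - e) := by
  induction k with
  | zero => simp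
  | succ k ih =>
    rw [pow_succ, ih, hM]
    simp only [Matrix.add_mul, Matrix.mul_add, Matrix.smul_mul, Matrix.mul_smul, Matrix.sub_mul,
      Matrix.mul_sub, Matrix.one_mul, Matrix.mul_one, he, sub_self, smul_zero, add_zero]
    rw [pow_succ a, pow_succ b]
    module

/-- Every element has order dividing the characteristic, `q - 1` or `q + 1`. -/
theorem pow_cases [Finite F] (p : ℕ) [Fact p.Prime] [CharP F p] (x : PGL) :
    x ^ p = 1 ∨ x ^ (Nat.card F - 1) = 1 ∨ x ^ (Nat.card F + 1) = 1 := by
  classical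
  have := Fintype.ofFinite F
  obtain ⟨g, rfl⟩ := QuotientGroup.mk_surjective x
  simp only [← QuotientGroup.mk_pow]
  set M : M2 := (g : M2) with hM
  set t := M.trace with ht
  set d := M.det with hd
  have hd0 : d ≠ 0 := ((Matrix.isUnit_iff_isUnit_det _).mp g.isUnit).ne_zero
  have hcay : M * M = t • M - d • 1 := CfsgLib.SL2.cayley M
  by_cases hroot : ∃ a, a * a - t * a + d = 0
  · obtain ⟨a, ha⟩ := hroot
    obtain ⟨b, hb⟩ : ∃ b, t = a + b := ⟨t - a, by ring⟩
    have hab : d = a * b := by rw [hb] at ha; linear_combination ha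
    by_cases hne : a = b
    · left
      subst hne
      refine mk_eq_one_of_scalar _ (a ^ p) ?_
      have hN : (M - a • 1) * (M - a • 1) = 0 := by
        simp only [Matrix.sub_mul, Matrix.mul_sub, Matrix.smul_mul, Matrix.mul_smul, Matrix.one_mul,
          Matrix.mul_one, hcay, hb, hab]
        module
      have : CharP (Matrix (Fin 2) (Fin 2) F) p := inferInstance
      have hc : Commute (M - a • 1) (a • (1 : M2)) := by
        unfold Commute SemiconjBy
        rw [Matrix.mul_smul, Matrix.smul_mul, Matrix.mul_one, Matrix.one_mul]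
      rw [Units.val_pow_eq_pow_val, ← hM]
      calc M ^ p = (M - a • 1 + a • 1) ^ p := by rw [sub_add_cancel]
        _ = (M - a • 1) ^ p + (a • 1) ^ p := add_pow_char_of_commute p hc
        _ = a ^ p • 1 := by
          obtain ⟨m, hm⟩ : ∃ m, p = m + 2 := ⟨p - 2, by have := (Fact.out : p.Prime).two_le; omega⟩
          have h2 : (M - a • 1) ^ p = 0 := by rw [hm, pow_add, sq, hN, mul_zero]
          rw [h2, zero_add, _root_.smul_pow, one_pow]
    · right; left
      refine mk_eq_one_of_scalar _ 1 ?_
      set e : M2 := (a - b)⁻¹ • (M - b • 1) with he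
      have h0 : a - b ≠ 0 := sub_ne_zero.mpr hne
      have hk : (a - b) • e = M - b • 1 := by rw [he, smul_smul, mul_inv_cancel₀ h0, one_smul]
      have he2 : e * e = e := by
        have h1 : (M - b • 1) * (M - b • 1) = (a - b) • (M - b • 1) := by
          simp only [Matrix.sub_mul, Matrix.mul_sub, Matrix.smul_mul, Matrix.mul_smul, Matrix.one_mul,
            Matrix.mul_one, hcay, hb, hab]
          module
        rw [he, Matrix.smul_mul, Matrix.mul_smul, h1, smul_smul, smul_smul,
          mul_assoc, inv_mul_cancel₀ h0, mul_one]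
      have hMe : M = a • e + b • (1 - e) := by
        rw [smul_sub, show a • e + (b • (1 : M2) - b • e) = (a - b) • e + b • 1 by module, hk,
          sub_add_cancel]
      have hab0 : a ≠ 0 ∧ b ≠ 0 := mul_ne_zero_iff.mp (hab ▸ hd0)
      rw [Units.val_pow_eq_pow_val, ← hM, pow_idem M e a b he2 hMe, Nat.card_eq_fintype_card,
        FiniteField.pow_card_sub_one_eq_one a hab0.1, FiniteField.pow_card_sub_one_eq_one b hab0.2]
      module
  · right; right
    push Not at hroot
    set χ : F[X] := C 1 * X ^ 2 + C (-t) * X + C d with hχ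
    have hdeg : χ.natDegree = 2 := Polynomial.natDegree_quadratic one_ne_zero
    have hmon : χ.Monic := by
      rw [Polynomial.Monic, Polynomial.leadingCoeff, hdeg, hχ]
      simp
    have hirr : Irreducible χ := by
      refine (Polynomial.Monic.irreducible_iff_roots_eq_zero_of_degree_le_three hmon hdeg.ge
        (by omega)).mpr (Multiset.eq_zero_of_forall_notMem fun a ha => hroot a ?_)
      rw [Polynomial.mem_roots hmon.ne_zero] at ha
      simp [hχ] at ha
      linear_combination ha
    haveI := Fact.mk hirr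
    haveI : Module.Finite F (AdjoinRoot χ) := (AdjoinRoot.powerBasis hirr.ne_zero).finite
    haveI : Finite (AdjoinRoot χ) := Module.finite_of_finite F
    have hcard : Nat.card (AdjoinRoot χ) = Nat.card F ^ 2 := by
      rw [Module.natCard_eq_pow_finrank (K := F), (AdjoinRoot.powerBasis hirr.ne_zero).finrank,
        AdjoinRoot.powerBasis_dim, hdeg]
    have heval : Polynomial.aeval M χ = 0 := by
      simp only [hχ, map_add, map_mul, Polynomial.aeval_C, Polynomial.aeval_X,
        Algebra.algebraMap_eq_smul_one, sq, hcay, one_smul, Matrix.one_mul, Matrix.smul_mul]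
      module
    have hne : AdjoinRoot.root χ ≠ 0 := by
      intro h0
      obtain ⟨r, hr⟩ := AdjoinRoot.mk_eq_zero.mp (show AdjoinRoot.mk χ X = 0 by rw [AdjoinRoot.mk_X, h0])
      have h1 := congrArg (Polynomial.aeval M) hr
      rw [map_mul, heval, zero_mul, Polynomial.aeval_X] at h1
      exact hd0 (by rw [hd, h1, Matrix.det_zero])
    obtain ⟨c, hc⟩ := pow_succ_mem_range (AdjoinRoot.of χ) hcard _ hne
    refine mk_eq_one_of_scalar _ c ?_
    obtain ⟨r, hr⟩ := AdjoinRoot.mk_eq_zero.mp (show AdjoinRoot.mk χ (X ^ (Nat.card F + 1) - C c) = 0 by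
      rw [map_sub, map_pow, AdjoinRoot.mk_X, AdjoinRoot.mk_C, hc, sub_self])
    have h1 := congrArg (Polynomial.aeval M) hr
    rw [map_mul, heval, zero_mul, map_sub, map_pow, Polynomial.aeval_X, Polynomial.aeval_C,
      Algebra.algebraMap_eq_smul_one, sub_eq_zero] at h1
    rw [Units.val_pow_eq_pow_val, ← hM, h1]

theorem exists_char [Finite F] (p : ℕ) [Fact p.Prime] [CharP F p] : ∃ x : PGL, orderOf x = p := by
  let u : GL (Fin 2) F := GeneralLinearGroup.mkOfDetNeZero !![1, 1; 0, 1] (by simp [Matrix.det_fin_two])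
  have hu : ∀ k : ℕ, ((u ^ k : GL (Fin 2) F) : M2) = !![1, (k : F); 0, 1] := by
    intro k
    induction k with
    | zero => ext i j; fin_cases i <;> fin_cases j <;> simp
    | succ k ih =>
      rw [pow_succ, Units.val_mul, ih]
      ext i j
      fin_cases i <;> fin_cases j <;>
        simp [u, GeneralLinearGroup.mkOfDetNeZero, Matrix.mul_apply, add_comm]
  refine ⟨(u : PGL), orderOf_eq_prime ?_ ?_⟩
  · rw [← QuotientGroup.mk_pow]
    refine mk_eq_one_of_scalar _ 1 ?_
    rw [hu, CharP.cast_eq_zero F p]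
    ext i j; fin_cases i <;> fin_cases j <;> simp
  · intro h
    refine scalar_of_mem_center u ((QuotientGroup.eq_one_iff _).mp h) ?_
    rw [CfsgLib.SL2.nonScalar_iff]
    simp [u, GeneralLinearGroup.mkOfDetNeZero]

theorem exists_sub_one [Finite F] : ∃ x : PGL, orderOf x = Nat.card F - 1 := by
  classical
  obtain ⟨w, hw⟩ := IsCyclic.exists_ofOrder_eq_natCard (α := Fˣ)
  let g : GL (Fin 2) F := GeneralLinearGroup.mkOfDetNeZero !![(w : F), 0; 0, 1]
    (by simp [Matrix.det_fin_two])
  refine ⟨(g : PGL), ?_⟩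
  rw [← Nat.card_units F, ← hw]
  have hg : ∀ k : ℕ, ((g ^ k : GL (Fin 2) F) : M2) = !![(w : F) ^ k, 0; 0, 1] := by
    intro k
    induction k with
    | zero => ext i j; fin_cases i <;> fin_cases j <;> simp
    | succ k ih =>
      rw [pow_succ, Units.val_mul, ih]
      ext i j
      fin_cases i <;> fin_cases j <;>
        simp [g, GeneralLinearGroup.mkOfDetNeZero, Matrix.mul_apply, pow_succ]
  refine orderOf_eq_orderOf_iff.mpr fun k => ?_
  rw [← QuotientGroup.mk_pow]
  constructor
  · intro h
    have hn := scalar_of_mem_center _ ((QuotientGroup.eq_one_iff _).mp h)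
    rw [CfsgLib.SL2.nonScalar_iff, hg] at hn
    push Not at hn
    exact Units.ext (by simpa using hn.2.2)
  · intro h
    refine mk_eq_one_of_scalar _ 1 ?_
    rw [hg, ← Units.val_pow_eq_pow_val, h]
    ext i j; fin_cases i <;> fin_cases j <;> simp

theorem exists_add_one [Finite F] : ∃ x : PGL, orderOf x = Nat.card F + 1 := by
  classical
  obtain ⟨t, ht⟩ := CfsgLib.SL2.exists_trace_irreducible (F := F)
  set χ : F[X] := C 1 * X ^ 2 + C (-t) * X + C 1 with hχ
  have hdeg : χ.natDegree = 2 := Polynomial.natDegree_quadratic one_ne_zero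
  have hmon : χ.Monic := by
    rw [Polynomial.Monic, Polynomial.leadingCoeff, hdeg, hχ]
    simp [Polynomial.coeff_one]
  have hirr : Irreducible χ := by
    refine (Polynomial.Monic.irreducible_iff_roots_eq_zero_of_degree_le_three hmon hdeg.ge
      (by omega)).mpr (Multiset.eq_zero_of_forall_notMem fun a ha => ht a ?_)
    rw [Polynomial.mem_roots hmon.ne_zero] at ha
    simp [hχ] at ha
    linear_combination ha
  haveI := Fact.mk hirr
  haveI : Module.Finite F (AdjoinRoot χ) := (AdjoinRoot.powerBasis hirr.ne_zero).finite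
  haveI : Finite (AdjoinRoot χ) := Module.finite_of_finite F
  have hcard : Nat.card (AdjoinRoot χ) = Nat.card F ^ 2 := by
    rw [Module.natCard_eq_pow_finrank (K := F), (AdjoinRoot.powerBasis hirr.ne_zero).finrank,
      AdjoinRoot.powerBasis_dim, hdeg]
  let b : Module.Basis (Fin 2) F (AdjoinRoot χ) :=
    (AdjoinRoot.powerBasis hirr.ne_zero).basis.reindex (finCongr (by rw [AdjoinRoot.powerBasis_dim, hdeg]))
  let ρ : AdjoinRoot χ →+* M2 := (Algebra.leftMulMatrix b).toRingHom
  have hρ : Function.Injective ρ := RingHom.injective ρ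
  let f : (AdjoinRoot χ)ˣ →* PGL := (QuotientGroup.mk' _).comp (Units.map ρ.toMonoidHom)
  obtain ⟨w, hw⟩ := IsCyclic.exists_ofOrder_eq_natCard (α := (AdjoinRoot χ)ˣ)
  rw [Nat.card_units, hcard] at hw
  set q := Nat.card F
  have hq : 1 < q := Finite.one_lt_card
  refine ⟨f w, Nat.dvd_antisymm (orderOf_dvd_of_pow_eq_one ?_) ?_⟩
  · obtain ⟨c, hc⟩ := pow_succ_mem_range (AdjoinRoot.of χ) hcard (w : AdjoinRoot χ) w.ne_zero
    rw [← map_pow]
    refine mk_eq_one_of_scalar _ c ?_
    show ρ ((w ^ (q + 1) : (AdjoinRoot χ)ˣ) : AdjoinRoot χ) = _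
    rw [Units.val_pow_eq_pow_val, hc, ← AdjoinRoot.algebraMap_eq]
    show Algebra.leftMulMatrix b (algebraMap F _ c) = _
    rw [AlgHom.commutes, Algebra.algebraMap_eq_smul_one]
  · set m := orderOf (f w) with hm
    have h1 : f (w ^ m) = 1 := by rw [map_pow, hm, pow_orderOf_eq_one]
    have hn := scalar_of_mem_center _ ((QuotientGroup.eq_one_iff _).mp h1)
    rw [CfsgLib.SL2.NonScalar] at hn
    push Not at hn
    obtain ⟨c, hc⟩ := hn
    have hc' : ((w ^ m : (AdjoinRoot χ)ˣ) : AdjoinRoot χ) = algebraMap F _ c := by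
      refine hρ ?_
      show _ = Algebra.leftMulMatrix b (algebraMap F _ c)
      rw [AlgHom.commutes, Algebra.algebraMap_eq_smul_one, ← hc]
      rfl
    have hc0 : c ≠ 0 := fun h => (w ^ m).ne_zero (by rw [hc', h, map_zero])
    have h2 : w ^ (m * (q - 1)) = 1 := by
      apply Units.ext
      rw [pow_mul, Units.val_pow_eq_pow_val, hc', ← map_pow, Units.val_one]
      have := Fintype.ofFinite F
      rw [show q = Fintype.card F from Nat.card_eq_fintype_card, FiniteField.pow_card_sub_one_eq_one c hc0,
        map_one]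
    have h3 := orderOf_dvd_of_pow_eq_one h2
    rw [hw, ← one_pow 2, Nat.sq_sub_sq] at h3
    exact Nat.dvd_of_mul_dvd_mul_right (by omega) h3

/-- The set of element orders of the projective general linear group of degree two. -/
theorem spectrum_eq [Finite F] (p : ℕ) [Fact p.Prime] [CharP F p] :
    Set.range (orderOf : PGL → ℕ) = {m : ℕ | m ∣ p ∨ m ∣ Nat.card F - 1 ∨ m ∣ Nat.card F + 1} := by
  ext m
  constructor
  · rintro ⟨x, rfl⟩
    rcases pow_cases p x with h | h | h
    · exact Or.inl (orderOf_dvd_of_pow_eq_one h)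
    · exact Or.inr (Or.inl (orderOf_dvd_of_pow_eq_one h))
    · exact Or.inr (Or.inr (orderOf_dvd_of_pow_eq_one h))
  · have key : ∀ n, (∃ x : PGL, orderOf x = n) → m ∣ n → m ∈ Set.range (orderOf : PGL → ℕ) := by
      rintro n ⟨x, rfl⟩ hm
      exact ⟨x ^ (orderOf x / m), orderOf_pow_orderOf_div (orderOf_pos x).ne' hm⟩
    rintro (h | h | h)
    · exact key _ (exists_char p) h
    · exact key _ exists_sub_one h
    · exact key _ exists_add_one h

end CfsgLib.SpectrumPGL
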