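import Mathlib

/-!
The element orders of small alternating groups.
-/

set_option autoImplicit false
set_option linter.style.haveILetI false

namespace CfsgLib.AltSpectrum

open Equiv Equiv.Perm

/-- The distinct cycle lengths of an even permutation of `n` points. -/
theorem alt_cycle_set {n : ℕ} (σ : alternatingGroup (Fin n)) :
    ∃ S ∈ (Finset.Icc 2 n).powerset,
      (S.sum id + 2 ≤ n ∨ (S.sum id ≤ n ∧ (S.sum id + S.card) % 2 = 0)) ∧ orderOf σ = S.lcm id := by
  set M := (σ : Perm (Fin n)).cycleType with hM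
  have hsum : M.sum ≤ n := by
    rw [hM, Equiv.Perm.sum_cycleType]
    simpa using (σ : Perm (Fin n)).support.card_le_univ
  have h2 : ∀ x ∈ M, 2 ≤ x := fun x hx => Equiv.Perm.two_le_of_mem_cycleType hx
  have hpar : Even (M.sum + M.card) := by
    have h := Equiv.Perm.mem_alternatingGroup.mp σ.2
    rw [Equiv.Perm.sign_of_cycleType, ← hM] at h
    rcases Nat.even_or_odd (M.sum + M.card) with he | ho
    · exact he
    · rw [ho.neg_one_pow] at h; exact absurd h (by decide)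
  refine ⟨M.toFinset, Finset.mem_powerset.mpr fun x hx => ?_, ?_, ?_⟩
  · rw [Multiset.mem_toFinset] at hx
    exact Finset.mem_Icc.mpr ⟨h2 x hx, (Multiset.single_le_sum (fun _ _ => Nat.zero_le _) x hx).trans hsum⟩
  · have hs : M.toFinset.sum id = M.dedup.sum := by rw [Finset.sum, Multiset.toFinset_val, Multiset.map_id]
    have hc : M.toFinset.card = Multiset.card M.dedup := rfl
    rw [hs, hc]
    obtain ⟨R, hR⟩ := Multiset.le_iff_exists_add.mp (Multiset.dedup_le M)
    by_cases hR0 : R = 0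
    · refine Or.inr ⟨?_, ?_⟩
      · rw [hR0, add_zero] at hR; rw [← hR]; exact hsum
      · rw [hR0, add_zero] at hR; rw [← hR]; exact Nat.even_iff.mp hpar
    · left
      obtain ⟨x, hx⟩ := Multiset.exists_mem_of_ne_zero hR0
      have := h2 x (hR ▸ Multiset.mem_add.mpr (Or.inr hx))
      have h3 := Multiset.single_le_sum (fun _ _ => Nat.zero_le _) x hx
      have h4 : M.sum = M.dedup.sum + R.sum := by conv_lhs => rw [hR, Multiset.sum_add]
      omega
  · rw [← Subgroup.orderOf_coe, ← Equiv.Perm.lcm_cycleType, ← hM, Finset.lcm_def, Multiset.toFinset_val,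
      Multiset.map_id, Multiset.lcm_dedup]

theorem orderOf_five (g : alternatingGroup (Fin 5)) : orderOf g ∈ ({1, 2, 3, 5} : Finset ℕ) := by
  obtain ⟨S, hS, hc, he⟩ := alt_cycle_set g
  have key : ∀ S ∈ (Finset.Icc 2 5).powerset,
      (S.sum id + 2 ≤ 5 ∨ (S.sum id ≤ 5 ∧ (S.sum id + S.card) % 2 = 0)) →
        S.lcm id ∈ ({1, 2, 3, 5} : Finset ℕ) := by decide +kernel
  rw [he]; exact key S hS hc

theorem orderOf_six (g : alternatingGroup (Fin 6)) : orderOf g ∈ ({1, 2, 3, 4, 5} : Finset ℕ) := by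
  obtain ⟨S, hS, hc, he⟩ := alt_cycle_set g
  have key : ∀ S ∈ (Finset.Icc 2 6).powerset,
      (S.sum id + 2 ≤ 6 ∨ (S.sum id ≤ 6 ∧ (S.sum id + S.card) % 2 = 0)) →
        S.lcm id ∈ ({1, 2, 3, 4, 5} : Finset ℕ) := by decide +kernel
  rw [he]; exact key S hS hc

theorem orderOf_ten (g : alternatingGroup (Fin 10)) :
    orderOf g ∈ ({1, 2, 3, 4, 5, 6, 7, 8, 9, 10, 12, 15, 21} : Finset ℕ) := by
  obtain ⟨S, hS, hc, he⟩ := alt_cycle_set g
  have key : ∀ S ∈ (Finset.Icc 2 10).powerset,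
      (S.sum id + 2 ≤ 10 ∨ (S.sum id ≤ 10 ∧ (S.sum id + S.card) % 2 = 0)) →
        S.lcm id ∈ ({1, 2, 3, 4, 5, 6, 7, 8, 9, 10, 12, 15, 21} : Finset ℕ) := by decide +kernel
  rw [he]; exact key S hS hc

/-- Membership from an explicit permutation. -/
theorem mem_range {n : ℕ} (m : ℕ) (σ : Perm (Fin n)) (h : Equiv.Perm.sign σ = 1) (hpow : σ ^ m = 1)
    (hm : 0 < m) (hlt : ∀ k < m, 0 < k → σ ^ k ≠ 1) :
    m ∈ Set.range (orderOf : alternatingGroup (Fin n) → ℕ) :=
  ⟨⟨σ, Equiv.Perm.mem_alternatingGroup.mpr h⟩, by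
    rw [← Subgroup.orderOf_coe, orderOf_eq_iff hm]; exact ⟨hpow, hlt⟩⟩

end CfsgLib.AltSpectrum
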