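import Mathlib

/-!
Orders of matrices of degree three with determinant one from their characteristic polynomial.
-/

set_option autoImplicit false

namespace CfsgLib.Spectrum.Cubic

open Matrix

variable {R : Type*} [CommRing R]

/-- The sum of the principal minors of size two. -/
def minorSum (M : Matrix (Fin 3) (Fin 3) R) : R :=
  (M 1 1 * M 2 2 - M 1 2 * M 2 1) + (M 0 0 * M 2 2 - M 0 2 * M 2 0) + (M 0 0 * M 1 1 - M 0 1 * M 1 0)

theorem trace_adjugate (M : Matrix (Fin 3) (Fin 3) R) : (adjugate M).trace = minorSum M := by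
  simp [Matrix.trace, Fin.sum_univ_three, adjugate_fin_three, minorSum]

/-- Cayley–Hamilton in degree three. -/
theorem cube_eq (M : Matrix (Fin 3) (Fin 3) R) (hd : M.det = 1) :
    M * M * M = M.trace • (M * M) - minorSum M • M + 1 := by
  rw [det_fin_three] at hd
  ext i j
  fin_cases i <;> fin_cases j <;>
    simp [Matrix.mul_apply, Fin.sum_univ_three, Matrix.trace, minorSum, Matrix.add_apply,
      Matrix.sub_apply, Matrix.smul_apply]
  all_goals first
    | ring1
    | linear_combination hd

variable {k : Type*} [CommRing k]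

/-- Coefficients of the powers with respect to `M², M, 1`. -/
def coef (t s : k) : ℕ → k × k × k
  | 0 => (0, 0, 1)
  | n + 1 => ((coef t s n).1 * t + (coef t s n).2.1, (coef t s n).2.2 - (coef t s n).1 * s,
      (coef t s n).1)

theorem pow_eq (φ : k →+* R) (M : Matrix (Fin 3) (Fin 3) R) (hd : M.det = 1) (t s : k)
    (ht : M.trace = φ t) (hs : minorSum M = φ s) (n : ℕ) :
    M ^ n = φ (coef t s n).1 • (M * M) + φ (coef t s n).2.1 • M + φ (coef t s n).2.2 • 1 := by
  induction n with
  | zero => simp [coef]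
  | succ n ih =>
    rw [pow_succ, ih, add_mul, add_mul, smul_mul, smul_mul, smul_mul, cube_eq M hd, ht, hs, Matrix.one_mul]
    simp only [coef, map_add, map_mul, map_sub]
    module

/-- If the coefficients return to `(0, 0, 1)`, so does the matrix. -/
theorem pow_eq_one (φ : k →+* R) (M : Matrix (Fin 3) (Fin 3) R) (hd : M.det = 1) (t s : k)
    (ht : M.trace = φ t) (hs : minorSum M = φ s) (n : ℕ) (h : coef t s n = (0, 0, 1)) : M ^ n = 1 := by
  rw [pow_eq φ M hd t s ht hs, h]
  simp

theorem range_eq_of_bounds {G : Type*} [Monoid G] {S : Set ℕ} (h1 : ∀ g : G, orderOf g ∈ S)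
    (h2 : ∀ n ∈ S, ∃ g : G, orderOf g = n) : Set.range (orderOf : G → ℕ) = S :=
  Set.Subset.antisymm (Set.range_subset_iff.mpr h1) fun n hn => h2 n hn

theorem orderOf_pow_div {G : Type*} [Monoid G] {g : G} {o k m : ℕ} (ho : orderOf g = o) (hk : k ≠ 0)
    (hkm : k * m = o) : orderOf (g ^ k) = m := by
  rw [orderOf_pow_of_dvd hk (ho ▸ hkm ▸ dvd_mul_right k m), ho, ← hkm,
    Nat.mul_div_cancel_left _ (Nat.pos_of_ne_zero hk)]

end CfsgLib.Spectrum.Cubic
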