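import Mathlib

/-!
Element orders from exponent bounds and a few witnesses; quotients by a trivial centre.
-/

set_option autoImplicit false

namespace CfsgLib.Spectrum.DivBound

theorem range_quotient {G : Type*} [Group G] (Z : Subgroup G) [Z.Normal] (hZ : Z = ⊥) :
    Set.range (orderOf : G ⧸ Z → ℕ) = Set.range (orderOf : G → ℕ) := by
  have hinj : Function.Injective (QuotientGroup.mk' Z) :=
    (MonoidHom.ker_eq_bot_iff _).1 (by rw [QuotientGroup.ker_mk', hZ])
  ext n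
  constructor
  · rintro ⟨x, rfl⟩
    obtain ⟨g, rfl⟩ := QuotientGroup.mk'_surjective Z x
    exact ⟨g, (orderOf_injective _ hinj g).symm⟩
  · rintro ⟨g, rfl⟩
    exact ⟨QuotientGroup.mk' Z g, orderOf_injective _ hinj g⟩

theorem range_eq {G : Type*} [Monoid G] {S : Finset ℕ} {L : List ℕ}
    (hL : ∀ N ∈ L, 0 < N ∧ N.divisors ⊆ S) (hb : ∀ g : G, ∃ N ∈ L, g ^ N = 1)
    (hw : ∀ n ∈ S, ∃ g : G, orderOf g = n) :
    Set.range (orderOf : G → ℕ) = ↑S := by
  refine Set.Subset.antisymm ?_ fun n hn => hw n hn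
  rintro _ ⟨g, rfl⟩
  obtain ⟨N, hN, hg⟩ := hb g
  exact (hL N hN).2 (Nat.mem_divisors.2 ⟨orderOf_dvd_of_pow_eq_one hg, (hL N hN).1.ne'⟩)

end CfsgLib.Spectrum.DivBound
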