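import Mathlib

/-!
Element orders in a split extension of an abelian group of prime exponent.
-/

set_option autoImplicit false
set_option linter.style.haveILetI false

namespace CfsgLib.SpectrumExt

open SemidirectProduct

variable {M A : Type*} [CommGroup M] [Group A] (φ : A →* MulAut M)

/-- The product of the translates of `v` over the powers of `a` below `k`. -/
def normPow (a : A) (v : M) (k : ℕ) : M := ∏ i ∈ Finset.range k, φ (a ^ i) v

/-- The norm of `v` with respect to the cyclic group generated by `a`. -/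
noncomputable def norm (a : A) (v : M) : M := normPow φ a v (orderOf a)

theorem pow_eq (x : M ⋊[φ] A) (k : ℕ) : x ^ k = ⟨normPow φ x.right x.left k, x.right ^ k⟩ := by
  induction k with
  | zero => ext <;> simp [normPow]
  | succ k ih =>
    rw [pow_succ, ih]
    refine SemidirectProduct.ext ?_ ?_
    · show normPow φ x.right x.left k * φ (x.right ^ k) x.left = normPow φ x.right x.left (k + 1)
      exact (Finset.prod_range_succ (fun i => φ (x.right ^ i) x.left) k).symm
    · exact (pow_succ x.right k).symm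

variable [Finite M] [Finite A] {p : ℕ}

omit [Finite M] in
theorem orderOf_eq (hp : p.Prime) (hexp : ∀ v : M, v ^ p = 1) (x : M ⋊[φ] A) :
    (norm φ x.right x.left = 1 → orderOf x = orderOf x.right) ∧
      (norm φ x.right x.left ≠ 1 → orderOf x = orderOf x.right * p) := by
  set n := orderOf x.right with hn
  have h1 : x ^ n = inl (norm φ x.right x.left) := by
    rw [pow_eq]; ext <;> simp [norm, hn, pow_orderOf_eq_one]
  have hd : n ∣ orderOf x := orderOf_map_dvd (rightHom : M ⋊[φ] A →* A) x
  have hnpos : 0 < n := orderOf_pos _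
  refine ⟨fun h => ?_, fun h => ?_⟩
  · rw [h, map_one] at h1
    exact Nat.dvd_antisymm (orderOf_dvd_of_pow_eq_one h1) hd
  · have h2 : x ^ (n * p) = 1 := by
      rw [pow_mul, h1, ← map_pow, hexp, map_one]
    obtain ⟨q, hq⟩ := hd
    have hqp : q ∣ p := Nat.dvd_of_mul_dvd_mul_left hnpos (hq ▸ orderOf_dvd_of_pow_eq_one h2)
    rcases hp.eq_one_or_self_of_dvd q hqp with rfl | rfl
    · exfalso
      apply h
      have h3 := pow_orderOf_eq_one x
      rw [hq, mul_one, h1] at h3
      exact inl_injective (h3.trans (map_one _).symm)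
    · exact hq

omit [Finite M] in
/-- The element orders of the extension. -/
theorem range_eq (hp : p.Prime) (hexp : ∀ v : M, v ^ p = 1) :
    Set.range (orderOf : M ⋊[φ] A → ℕ) =
      Set.range (orderOf : A → ℕ) ∪ {n | ∃ a : A, (∃ v, norm φ a v ≠ 1) ∧ n = orderOf a * p} := by
  ext n
  constructor
  · rintro ⟨x, rfl⟩
    by_cases h : norm φ x.right x.left = 1
    · exact Or.inl ⟨x.right, ((orderOf_eq φ hp hexp x).1 h).symm⟩
    · exact Or.inr ⟨x.right, ⟨x.left, h⟩, (orderOf_eq φ hp hexp x).2 h⟩
  · rintro (⟨a, rfl⟩ | ⟨a, ⟨v, hv⟩, rfl⟩)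
    · exact ⟨inr a, orderOf_injective _ inr_injective a⟩
    · exact ⟨⟨v, a⟩, (orderOf_eq φ hp hexp ⟨v, a⟩).2 hv⟩

omit [Finite M] [Finite A] in
theorem map_norm (a : A) (v : M) (ha : IsOfFinOrder a) : φ a (norm φ a v) = norm φ a v := by
  obtain ⟨m, hm⟩ : ∃ m, orderOf a = m + 1 := ⟨orderOf a - 1, by have := ha.orderOf_pos; omega⟩
  rw [norm, normPow, map_prod, hm, Finset.prod_range_succ, Finset.prod_range_succ']
  have e : ∀ i, φ a (φ (a ^ i) v) = φ (a ^ (i + 1)) v := fun i => by
    rw [pow_succ', map_mul, MulAut.mul_apply]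
  simp only [e]
  rw [show a ^ (m + 1) = a ^ 0 by rw [pow_zero, ← hm, pow_orderOf_eq_one]]

omit [Finite M] [Finite A] in
theorem norm_of_fixed (a : A) (v : M) (h : φ a v = v) : norm φ a v = v ^ orderOf a := by
  have : ∀ i : ℕ, φ (a ^ i) v = v := fun i => by
    induction i with
    | zero => simp
    | succ i ih => rw [pow_succ, map_mul, MulAut.mul_apply, h, ih]
  rw [norm, normPow, Finset.prod_congr rfl fun i _ => this i]
  simp

omit [Finite M] in
/-- A fixed-point-free element has trivial norm. -/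
theorem norm_eq_one_of_fpf (a : A) (h : ∀ v, φ a v = v → v = 1) (v : M) : norm φ a v = 1 :=
  h _ (map_norm φ a v (isOfFinOrder_of_finite a))

omit [Finite M] [Finite A] in
/-- A fixed vector is detected by the norm when the order is prime to `p`. -/
theorem norm_ne_one_of_fixed (hp : p.Prime) (hexp : ∀ v : M, v ^ p = 1) (a : A) (v : M)
    (h : φ a v = v) (hv : v ≠ 1) (hnp : ¬ p ∣ orderOf a) : norm φ a v ≠ 1 := by
  haveI := Fact.mk hp
  rw [norm_of_fixed φ a v h]
  intro e
  exact hnp (orderOf_eq_prime (hexp v) hv ▸ orderOf_dvd_of_pow_eq_one e)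

omit [Finite M] [Finite A] in
theorem isSolvable [Group.IsSolvable A] : Group.IsSolvable (M ⋊[φ] A) :=
  Group.isSolvable_of_ker_le_range (inl : M →* M ⋊[φ] A) rightHom (range_inl_eq_ker_rightHom).ge

omit [Finite M] [Finite A] in
theorem range_ne_bot [Nontrivial M] : (inl : M →* M ⋊[φ] A).range ≠ ⊥ := by
  intro h
  obtain ⟨v, hv⟩ := exists_ne (1 : M)
  exact hv (inl_injective ((Subgroup.mem_bot.mp (h ▸ MonoidHom.mem_range.mpr ⟨v, rfl⟩)).trans (map_one _).symm))

instance : Finite (M ⋊[φ] A) := Finite.of_equiv _ SemidirectProduct.equivProd.symm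

end CfsgLib.SpectrumExt
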