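import Mathlib
import Cfsg.Agent.Lib.Spectrum.Extension

/-!
A group of order forty with element orders dividing eight or ten, acting without fixed points on a space
of dimension four over the field with three elements.
-/

set_option autoImplicit false
set_option linter.style.haveILetI false

namespace CfsgLib.FiveEight

open Matrix

abbrev W := Fin 4 → ZMod 3
abbrev Mat := Matrix (Fin 4) (Fin 4) (ZMod 3)

def matA : Mat := !![0, 0, 0, 2; 1, 0, 0, 2; 0, 1, 0, 2; 0, 0, 1, 2]
def matB : Mat := !![0, 1, 1, 0; 0, 2, 1, 1; 1, 0, 1, 2; 2, 0, 2, 0]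

def genA : Matˣ := ⟨matA, matA ^ 4, by decide +kernel, by decide +kernel⟩
def genB : Matˣ := ⟨matB, matB ^ 7, by decide +kernel, by decide +kernel⟩

abbrev C5 := Multiplicative (ZMod 5)
abbrev C8 := Multiplicative (ZMod 8)

/-- The action on the cyclic group of order five. -/
def psi : C8 →* MulAut C5 where
  toFun j :=
    { toFun := fun i => i ^ (3 ^ j.toAdd.val)
      invFun := fun i => i ^ (2 ^ j.toAdd.val)
      left_inv := by revert j; decide +kernel
      right_inv := by revert j; decide +kernel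
      map_mul' := fun x y => mul_pow x y _ }
  map_one' := MulEquiv.ext fun i => pow_one i
  map_mul' := by
    have h : ∀ a b : C8, ∀ i : C5, i ^ (3 ^ (a * b).toAdd.val) = (i ^ (3 ^ b.toAdd.val)) ^ (3 ^ a.toAdd.val) := by
      decide +kernel
    exact fun a b => MulEquiv.ext fun i => h a b i

abbrev A40 := C5 ⋊[psi] C8

def homA : C5 →* Matˣ where
  toFun i := genA ^ i.toAdd.val
  map_one' := by decide +kernel
  map_mul' := by decide +kernel

def homB : C8 →* Matˣ where
  toFun j := genB ^ j.toAdd.val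
  map_one' := by decide +kernel
  map_mul' := by decide +kernel

theorem compat : ∀ j : C8, ∀ i : C5, homA (psi j i) = homB j * homA i * (homB j)⁻¹ := by decide +kernel

/-- The representation. -/
def rho : A40 →* Matˣ :=
  SemidirectProduct.lift homA homB fun j => MonoidHom.ext fun i => by
    simp only [MonoidHom.comp_apply, MulEquiv.coe_toMonoidHom, MulAut.conj_apply]
    exact compat j i

abbrev Mod := Multiplicative W

/-- The action. -/
def act : A40 →* MulAut Mod where
  toFun a := AddEquiv.toMultiplicative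
    { toFun := fun v => (rho a : Mat) *ᵥ v
      invFun := fun v => (((rho a)⁻¹ : Matˣ) : Mat) *ᵥ v
      left_inv := fun v => by simp only [Matrix.mulVec_mulVec, Units.inv_mul, Matrix.one_mulVec]
      right_inv := fun v => by simp only [Matrix.mulVec_mulVec, Units.mul_inv, Matrix.one_mulVec]
      map_add' := fun v w => Matrix.mulVec_add _ v w }
  map_one' := MulEquiv.ext fun v => congrArg Multiplicative.ofAdd (by simp)
  map_mul' a b := MulEquiv.ext fun v => congrArg Multiplicative.ofAdd (by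
    show ((rho (a * b) : Matˣ) : Mat) *ᵥ v.toAdd = (rho a : Mat) *ᵥ ((rho b : Mat) *ᵥ v.toAdd)
    rw [map_mul, Units.val_mul, Matrix.mulVec_mulVec])

theorem exp_three (v : Mod) : v ^ 3 = 1 := by
  apply Multiplicative.toAdd.injective
  rw [toAdd_pow, toAdd_one]
  funext i
  rw [Pi.smul_apply, Pi.zero_apply, nsmul_eq_mul]
  exact (congrArg (· * _) (by decide : ((3 : ℕ) : ZMod 3) = 0)).trans (zero_mul _)

theorem fpf : ∀ i : C5, ∀ j : C8, ⟨i, j⟩ ≠ (1 : A40) →
    ∀ v : W, (rho ⟨i, j⟩ : Mat) *ᵥ v = v → v = 0 := by decide +kernel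

theorem pow_or : ∀ i : C5, ∀ j : C8, (⟨i, j⟩ : A40) ^ 8 = 1 ∨ (⟨i, j⟩ : A40) ^ 10 = 1 := by decide +kernel

theorem exists_eight : ∃ a : A40, orderOf a = 8 :=
  ⟨⟨1, Multiplicative.ofAdd 1⟩, orderOf_eq_prime_pow (p := 2) (n := 2) (by decide +kernel) (by decide +kernel)⟩

theorem exists_ten : ∃ a : A40, orderOf a = 10 := by
  refine ⟨⟨Multiplicative.ofAdd 1, Multiplicative.ofAdd 4⟩, ?_⟩
  rw [orderOf_eq_iff (by norm_num)]
  refine ⟨by decide +kernel, ?_⟩
  have h : ∀ m : Fin 10, 0 < m.val →
      (⟨Multiplicative.ofAdd 1, Multiplicative.ofAdd 4⟩ : A40) ^ m.val ≠ 1 := by decide +kernel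
  exact fun m hm hm' => h ⟨m, hm⟩ hm'

instance : Finite A40 := Finite.of_equiv _ SemidirectProduct.equivProd.symm

/-- The element orders of the extension. -/
theorem spectrum :
    Set.range (orderOf : Mod ⋊[act] A40 → ℕ) = {m : ℕ | m ∣ 3 ∨ m ∣ 8 ∨ m ∣ 10} := by
  rw [CfsgLib.SpectrumExt.range_eq act Nat.prime_three exp_three]
  have hnorm : ∀ a : A40, a ≠ 1 → ∀ v, CfsgLib.SpectrumExt.norm act a v = 1 := fun a ha =>
    CfsgLib.SpectrumExt.norm_eq_one_of_fpf act a fun v hv =>
      Multiplicative.toAdd.injective (fpf a.left a.right ha v.toAdd (congrArg Multiplicative.toAdd hv))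
  have hA : ∀ a : A40, orderOf a ∣ 8 ∨ orderOf a ∣ 10 := fun a =>
    (pow_or a.left a.right).imp orderOf_dvd_of_pow_eq_one orderOf_dvd_of_pow_eq_one
  have hdiv : ∀ n m, (∃ a : A40, orderOf a = n) → m ∣ n → ∃ a : A40, orderOf a = m := by
    rintro n m ⟨a, rfl⟩ hm
    exact ⟨a ^ (orderOf a / m), orderOf_pow_orderOf_div (orderOf_pos a).ne' hm⟩
  ext m
  constructor
  · rintro (⟨a, rfl⟩ | ⟨a, ⟨v, hv⟩, rfl⟩)
    · exact Or.inr (hA a)
    · by_cases ha : a = 1
      · left; rw [ha, orderOf_one, one_mul]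
      · exact absurd (hnorm a ha v) hv
  · rintro (h | h | h)
    · rcases (Nat.dvd_prime Nat.prime_three).mp h with rfl | rfl
      · exact Or.inl ⟨1, orderOf_one⟩
      · refine Or.inr ⟨1, ⟨Multiplicative.ofAdd (fun _ => 1), ?_⟩, by rw [orderOf_one, one_mul]⟩
        rw [CfsgLib.SpectrumExt.norm_of_fixed act 1 _ (by rw [map_one]; rfl), orderOf_one, pow_one]
        exact fun hh => one_ne_zero (congrFun (congrArg Multiplicative.toAdd hh) (0 : Fin 4))
    · exact Or.inl (hdiv 8 m exists_eight h)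
    · exact Or.inl (hdiv 10 m exists_ten h)

end CfsgLib.FiveEight
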