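import Cfsg.Agent.Lib.Spectrum.FrobeniusMatrix

/-!
A fixed-point-free group of 48 matrices of degree two over a field with 13² elements.
-/

set_option autoImplicit false
set_option maxRecDepth 100000
set_option maxHeartbeats 2000000

namespace CfsgLib.Spectrum.FpfFortyEight

open CfsgLib.Spectrum.FrobMat

/-- The field, as a quadratic algebra. -/
abbrev K : Type := QuadraticAlgebra (ZMod 13) 2 0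

/-- The elements. -/
def el : Fin 48 → Matrix (Fin 2) (Fin 2) K :=
  ![!![⟨1, 0⟩, ⟨0, 0⟩; ⟨0, 0⟩, ⟨1, 0⟩], !![⟨3, 0⟩, ⟨3, 0⟩; ⟨2, 0⟩, ⟨11, 0⟩], !![⟨0, 3⟩, ⟨0, 0⟩; ⟨0, 0⟩, ⟨0, 11⟩], !![⟨2, 0⟩, ⟨3, 0⟩; ⟨2, 0⟩, ⟨10, 0⟩], !![⟨0, 9⟩, ⟨0, 7⟩; ⟨0, 6⟩, ⟨0, 4⟩], !![⟨0, 9⟩, ⟨0, 9⟩; ⟨0, 9⟩, ⟨0, 4⟩], !![⟨5, 0⟩, ⟨0, 0⟩; ⟨0, 0⟩, ⟨8, 0⟩], !![⟨12, 0⟩, ⟨0, 0⟩; ⟨0, 0⟩, ⟨12, 0⟩], !![⟨0, 6⟩, ⟨0, 7⟩; ⟨0, 6⟩, ⟨0, 6⟩], !![⟨0, 2⟩, ⟨0, 0⟩; ⟨0, 0⟩, ⟨0, 10⟩], !![⟨2, 0⟩, ⟨11, 0⟩; ⟨10, 0⟩, ⟨10, 0⟩], !![⟨0, 6⟩, ⟨0, 9⟩; ⟨0, 9⟩, ⟨0, 6⟩], !![⟨2, 0⟩, ⟨2, 0⟩; ⟨3, 0⟩, ⟨10, 0⟩], !![⟨10, 0⟩, ⟨10, 0⟩; ⟨11, 0⟩, ⟨2, 0⟩], !![⟨0, 10⟩, ⟨0, 0⟩; ⟨0, 0⟩, ⟨0, 2⟩], !![⟨0, 6⟩, ⟨0, 4⟩; ⟨0, 4⟩, ⟨0, 6⟩], !![⟨10, 0⟩, ⟨11, 0⟩; ⟨10, 0⟩, ⟨2, 0⟩], !![⟨0, 6⟩, ⟨0, 6⟩; ⟨0, 7⟩, ⟨0, 6⟩],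 !![⟨2, 0⟩, ⟨10, 0⟩; ⟨11, 0⟩, ⟨10, 0⟩], !![⟨10, 0⟩, ⟨3, 0⟩; ⟨2, 0⟩, ⟨2, 0⟩], !![⟨10, 0⟩, ⟨2, 0⟩; ⟨3, 0⟩, ⟨2, 0⟩], !![⟨11, 0⟩, ⟨10, 0⟩; ⟨11, 0⟩, ⟨3, 0⟩], !![⟨0, 4⟩, ⟨0, 6⟩; ⟨0, 7⟩, ⟨0, 9⟩], !![⟨0, 4⟩, ⟨0, 4⟩; ⟨0, 4⟩, ⟨0, 9⟩], !![⟨8, 0⟩, ⟨0, 0⟩; ⟨0, 0⟩, ⟨5, 0⟩], !![⟨0, 0⟩, ⟨0, 10⟩; ⟨0, 11⟩, ⟨0, 0⟩], !![⟨0, 0⟩, ⟨8, 0⟩; ⟨8, 0⟩, ⟨0, 0⟩], !![⟨0, 0⟩, ⟨12, 0⟩; ⟨1, 0⟩, ⟨0, 0⟩], !![⟨0, 4⟩, ⟨0, 7⟩; ⟨0, 6⟩, ⟨0, 9⟩], !![⟨0, 4⟩, ⟨0, 9⟩; ⟨0, 9⟩, ⟨0, 9⟩], !![⟨0, 7⟩, ⟨0, 6⟩; ⟨0, 7⟩, ⟨0, 7⟩], !![⟨0, 11⟩, ⟨0, 0⟩; ⟨0, 0⟩, ⟨0, 3⟩], !![⟨11, 0⟩, ⟨2, 0⟩; ⟨3, 0⟩, ⟨3, 0⟩], !![⟨0, 7⟩, ⟨0, 4⟩; ⟨0, 4⟩, ⟨0, 7⟩], !![⟨11, 0⟩, ⟨11, 0⟩; ⟨10, 0⟩, ⟨3, 0⟩], !![⟨3, 0⟩, ⟨10, 0⟩; ⟨11, 0⟩, ⟨11, 0⟩], !![⟨0, 0⟩, ⟨0, 2⟩; ⟨0, 3⟩, ⟨0, 0⟩], !![⟨0, 0⟩, ⟨0, 11⟩; ⟨0, 10⟩, ⟨0, 0⟩],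 !![⟨11, 0⟩, ⟨3, 0⟩; ⟨2, 0⟩, ⟨3, 0⟩], !![⟨0, 7⟩, ⟨0, 9⟩; ⟨0, 9⟩, ⟨0, 7⟩], !![⟨3, 0⟩, ⟨2, 0⟩; ⟨3, 0⟩, ⟨11, 0⟩], !![⟨0, 7⟩, ⟨0, 7⟩; ⟨0, 6⟩, ⟨0, 7⟩], !![⟨3, 0⟩, ⟨11, 0⟩; ⟨10, 0⟩, ⟨11, 0⟩], !![⟨0, 9⟩, ⟨0, 6⟩; ⟨0, 7⟩, ⟨0, 4⟩], !![⟨0, 0⟩, ⟨5, 0⟩; ⟨5, 0⟩, ⟨0, 0⟩], !![⟨0, 9⟩, ⟨0, 4⟩; ⟨0, 4⟩, ⟨0, 4⟩], !![⟨0, 0⟩, ⟨1, 0⟩; ⟨12, 0⟩, ⟨0, 0⟩], !![⟨0, 0⟩, ⟨0, 3⟩; ⟨0, 2⟩, ⟨0, 0⟩]]

/-- The multiplication table. -/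
def tbl : Array (Array (Fin 48)) :=
  #[#[0, 1, 2, 3, 4, 5, 6, 7, 8, 9, 10, 11, 12, 13, 14, 15, 16, 17, 18, 19, 20, 21, 22, 23, 24, 25, 26, 27, 28, 29, 30, 31, 32, 33, 34, 35, 36, 37, 38, 39, 40, 41, 42, 43, 44, 45, 46, 47], #[1, 3, 4, 7, 8, 9, 10, 13, 14, 15, 16, 17, 18, 21, 22, 23, 24, 25, 26, 20, 27, 0, 30, 31, 32, 33, 34, 35, 29, 36, 2, 39, 40, 41, 38, 42, 43, 28, 44, 5, 6, 47, 46, 45, 12, 37, 19, 11], #[2, 5, 6, 11, 3, 12, 9, 14, 19, 7, 8, 20, 17, 23, 24, 16, 28, 13, 15, 29, 22, 33, 21, 34, 31, 26, 37, 25, 38, 32, 35, 0, 30, 42, 41, 45, 27, 46, 39, 40, 43, 1, 4, 18, 36, 10, 47, 44], #[3, 7, 8, 13, 14, 15, 16, 21, 22, 23, 24, 25, 26, 0, 30, 31, 32, 33, 34, 27, 35, 1, 2, 39, 40, 41, 38, 42, 36, 43, 4, 5, 6, 47, 44, 46, 45, 29,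 12, 9, 10, 11, 19, 37, 18, 28, 20, 17], #[4, 9, 10, 17, 7, 18, 15, 22, 20, 13, 14, 27, 25, 31, 32, 24, 29, 21, 23, 36, 30, 41, 0, 38, 39, 34, 28, 33, 44, 40, 42, 1, 2, 46, 47, 37, 35, 19, 5, 6, 45, 3, 8, 26, 43, 16, 11, 12], #[5, 11, 3, 14, 19, 7, 8, 23, 24, 16, 28, 13, 15, 33, 21, 34, 31, 26, 37, 22, 25, 2, 35, 0, 30, 42, 41, 45, 32, 27, 6, 40, 43, 1, 39, 4, 18, 38, 36, 12, 9, 44, 47, 10, 17, 46, 29, 20], #[6, 12, 9, 20, 11, 17, 7, 24, 29, 14, 19, 22, 13, 34, 31, 28, 38, 23, 16, 32, 21, 42, 33, 41, 0, 37, 46, 26, 39, 30, 45, 2, 35, 4, 1, 10, 25, 47, 40, 43, 18, 5, 3, 15, 27, 8, 44, 36], #[7, 13, 14, 21, 22, 23, 24, 0, 30, 31, 32, 33, 34, 1, 2, 39, 40, 41, 38, 35, 42, 3, 4, 5, 6, 47, 44, 46, 43, 45, 8, 9, 10, 11, 12, 19, 37, 36,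 18, 15, 16, 17, 20, 28, 26, 29, 27, 25], #[8, 15, 16, 25, 13, 26, 23, 30, 27, 21, 22, 35, 33, 39, 40, 32, 36, 0, 31, 43, 2, 47, 1, 44, 5, 38, 29, 41, 12, 6, 46, 3, 4, 19, 11, 28, 42, 20, 9, 10, 37, 7, 14, 34, 45, 24, 17, 18], #[9, 17, 7, 22, 20, 13, 14, 31, 32, 24, 29, 21, 23, 41, 0, 38, 39, 34, 28, 30, 33, 4, 42, 1, 2, 46, 47, 37, 40, 35, 10, 6, 45, 3, 5, 8, 26, 44, 43, 18, 15, 12, 11, 16, 25, 19, 36, 27], #[10, 18, 15, 27, 17, 25, 13, 32, 36, 22, 20, 30, 21, 38, 39, 29, 44, 31, 24, 40, 0, 46, 41, 47, 1, 28, 19, 34, 5, 2, 37, 4, 42, 8, 3, 16, 33, 11, 6, 45, 26, 9, 7, 23, 35, 14, 12, 43], #[11, 14, 19, 23, 24, 16, 28, 33, 21, 34, 31, 26, 37, 2, 35, 0, 30, 42, 41, 25, 45, 5, 6, 40, 43, 1, 39, 4, 27, 18, 3, 12, 9, 44, 36, 47, 10,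 32, 17, 7, 8, 20, 29, 46, 15, 38, 22, 13], #[12, 20, 11, 24, 29, 14, 19, 34, 31, 28, 38, 23, 16, 42, 33, 41, 0, 37, 46, 21, 26, 6, 45, 2, 35, 4, 1, 10, 30, 25, 9, 43, 18, 5, 40, 3, 15, 39, 27, 17, 7, 36, 44, 8, 13, 47, 32, 22], #[13, 21, 22, 0, 30, 31, 32, 1, 2, 39, 40, 41, 38, 3, 4, 5, 6, 47, 44, 42, 46, 7, 8, 9, 10, 11, 12, 19, 45, 37, 14, 15, 16, 17, 18, 20, 28, 43, 26, 23, 24, 25, 27, 29, 34, 36, 35, 33], #[14, 23, 24, 33, 21, 34, 31, 2, 35, 0, 30, 42, 41, 5, 6, 40, 43, 1, 39, 45, 4, 11, 3, 12, 9, 44, 36, 47, 18, 10, 19, 7, 8, 20, 17, 29, 46, 27, 15, 16, 28, 13, 22, 38, 37, 32, 25, 26], #[15, 25, 13, 30, 27, 21, 22, 39, 40, 32, 36, 0, 31, 47, 1, 44, 5, 38, 29, 2, 41, 8, 46, 3, 4, 19, 11, 28, 6, 42, 16, 10, 37, 7, 9, 14, 34,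 12, 45, 26, 23, 18, 17, 24, 33, 20, 43, 35], #[16, 26, 23, 35, 25, 33, 21, 40, 43, 30, 27, 2, 0, 44, 5, 36, 12, 39, 32, 6, 1, 19, 47, 11, 3, 29, 20, 38, 9, 4, 28, 8, 46, 14, 7, 24, 41, 17, 10, 37, 34, 15, 13, 31, 42, 22, 18, 45], #[17, 22, 20, 31, 32, 24, 29, 41, 0, 38, 39, 34, 28, 4, 42, 1, 2, 46, 47, 33, 37, 9, 10, 6, 45, 3, 5, 8, 35, 26, 7, 18, 15, 12, 43, 11, 16, 40, 25, 13, 14, 27, 36, 19, 23, 44, 30, 21], #[18, 27, 17, 32, 36, 22, 20, 38, 39, 29, 44, 31, 24, 46, 41, 47, 1, 28, 19, 0, 34, 10, 37, 4, 42, 8, 3, 16, 2, 33, 15, 45, 26, 9, 6, 7, 23, 5, 35, 25, 13, 43, 12, 14, 21, 11, 40, 30], #[19, 16, 28, 26, 23, 37, 34, 35, 25, 33, 21, 45, 42, 40, 43, 30, 27, 2, 0, 18, 6, 44, 5, 36, 12, 39, 32, 1, 17, 9, 47, 11, 3, 29, 20, 38,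 4, 22, 7, 8, 46, 14, 24, 41, 10, 31, 13, 15], #[20, 24, 29, 34, 31, 28, 38, 42, 33, 41, 0, 37, 46, 6, 45, 2, 35, 4, 1, 26, 10, 12, 9, 43, 18, 5, 40, 3, 25, 15, 11, 17, 7, 36, 27, 44, 8, 30, 13, 14, 19, 22, 32, 47, 16, 39, 21, 23], #[21, 0, 30, 1, 2, 39, 40, 3, 4, 5, 6, 47, 44, 7, 8, 9, 10, 11, 12, 46, 19, 13, 14, 15, 16, 17, 18, 20, 37, 28, 22, 23, 24, 25, 26, 27, 29, 45, 34, 31, 32, 33, 35, 36, 38, 43, 42, 41], #[22, 31, 32, 41, 0, 38, 39, 4, 42, 1, 2, 46, 47, 9, 10, 6, 45, 3, 5, 37, 8, 17, 7, 18, 15, 12, 43, 11, 26, 16, 20, 13, 14, 27, 25, 36, 19, 35, 23, 24, 29, 21, 30, 44, 28, 40, 33, 34], #[23, 33, 21, 2, 35, 0, 30, 5, 6, 40, 43, 1, 39, 11, 3, 12, 9, 44, 36, 4, 47, 14, 19, 7, 8, 20, 17, 29, 10, 46, 24, 16, 28, 13, 15, 22,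 38, 18, 37, 34, 31, 26, 25, 32, 41, 27, 45, 42], #[24, 34, 31, 42, 33, 41, 0, 6, 45, 2, 35, 4, 1, 12, 9, 43, 18, 5, 40, 10, 3, 20, 11, 17, 7, 36, 27, 44, 15, 8, 29, 14, 19, 22, 13, 32, 47, 25, 16, 28, 38, 23, 21, 39, 46, 30, 26, 37], #[25, 30, 27, 39, 40, 32, 36, 47, 1, 44, 5, 38, 29, 8, 46, 3, 4, 19, 11, 41, 28, 15, 16, 10, 37, 7, 9, 14, 42, 34, 13, 26, 23, 18, 45, 17, 24, 6, 33, 21, 22, 35, 43, 20, 31, 12, 2, 0], #[26, 35, 25, 40, 43, 30, 27, 44, 5, 36, 12, 39, 32, 19, 47, 11, 3, 29, 20, 1, 38, 16, 28, 8, 46, 14, 7, 24, 4, 41, 23, 37, 34, 15, 10, 13, 31, 9, 42, 33, 21, 45, 18, 22, 0, 17, 6, 2], #[27, 32, 36, 38, 39, 29, 44, 46, 41, 47, 1, 28, 19, 10, 37, 4, 42, 8, 3, 34, 16, 18, 15, 45, 26, 9, 6, 7, 33, 23, 17, 25, 13, 43, 35,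 12, 14, 2, 21, 22, 20, 30, 40, 11, 24, 5, 0, 31], #[28, 37, 34, 45, 26, 42, 33, 43, 18, 35, 25, 6, 2, 36, 12, 27, 17, 40, 30, 9, 5, 29, 44, 20, 11, 32, 22, 39, 7, 3, 38, 19, 47, 24, 14, 31, 1, 13, 8, 46, 41, 16, 23, 0, 4, 21, 15, 10], #[29, 28, 38, 37, 34, 46, 41, 45, 26, 42, 33, 10, 4, 43, 18, 35, 25, 6, 2, 15, 9, 36, 12, 27, 17, 40, 30, 5, 13, 7, 44, 20, 11, 32, 22, 39, 3, 21, 14, 19, 47, 24, 31, 1, 8, 0, 23, 16], #[30, 39, 40, 47, 1, 44, 5, 8, 46, 3, 4, 19, 11, 15, 16, 10, 37, 7, 9, 28, 14, 25, 13, 26, 23, 18, 45, 17, 34, 24, 27, 21, 22, 35, 33, 43, 20, 42, 31, 32, 36, 0, 2, 12, 29, 6, 41, 38], #[31, 41, 0, 4, 42, 1, 2, 9, 10, 6, 45, 3, 5, 17, 7, 18, 15, 12, 43, 8, 11, 22, 20, 13, 14, 27, 25, 36, 16, 19, 32, 24, 29, 21, 23,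 30, 44, 26, 28, 38, 39, 34, 33, 40, 47, 35, 37, 46], #[32, 38, 39, 46, 41, 47, 1, 10, 37, 4, 42, 8, 3, 18, 15, 45, 26, 9, 6, 16, 7, 27, 17, 25, 13, 43, 35, 12, 23, 14, 36, 22, 20, 30, 21, 40, 11, 33, 24, 29, 44, 31, 0, 5, 19, 2, 34, 28], #[33, 2, 35, 5, 6, 40, 43, 11, 3, 12, 9, 44, 36, 14, 19, 7, 8, 20, 17, 47, 29, 23, 24, 16, 28, 13, 15, 22, 46, 38, 21, 34, 31, 26, 37, 25, 32, 10, 41, 0, 30, 42, 45, 27, 39, 18, 4, 1], #[34, 42, 33, 6, 45, 2, 35, 12, 9, 43, 18, 5, 40, 20, 11, 17, 7, 36, 27, 3, 44, 24, 29, 14, 19, 22, 13, 32, 8, 47, 31, 28, 38, 23, 16, 21, 39, 15, 46, 41, 0, 37, 26, 30, 1, 25, 10, 4], #[35, 40, 43, 44, 5, 36, 12, 19, 47, 11, 3, 29, 20, 16, 28, 8, 46, 14, 7, 38, 24, 26, 23, 37, 34, 15, 10, 13, 41, 31, 25, 33, 21,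 45, 42, 18, 22, 4, 0, 30, 27, 2, 6, 17, 32, 9, 1, 39], #[36, 29, 44, 28, 38, 19, 47, 37, 34, 46, 41, 16, 8, 45, 26, 42, 33, 10, 4, 23, 15, 43, 18, 35, 25, 6, 2, 9, 21, 13, 12, 27, 17, 40, 30, 5, 7, 0, 22, 20, 11, 32, 39, 3, 14, 1, 31, 24], #[37, 45, 26, 43, 18, 35, 25, 36, 12, 27, 17, 40, 30, 29, 44, 20, 11, 32, 22, 5, 39, 28, 38, 19, 47, 24, 14, 31, 3, 1, 34, 46, 41, 16, 8, 23, 0, 7, 4, 42, 33, 10, 15, 21, 2, 13, 9, 6], #[38, 46, 41, 10, 37, 4, 42, 18, 15, 45, 26, 9, 6, 27, 17, 25, 13, 43, 35, 7, 12, 32, 36, 22, 20, 30, 21, 40, 14, 11, 39, 29, 44, 31, 24, 0, 5, 23, 19, 47, 1, 28, 34, 2, 3, 33, 16, 8], #[39, 47, 1, 8, 46, 3, 4, 15, 16, 10, 37, 7, 9, 25, 13, 26, 23, 18, 45, 14, 17, 30, 27, 21, 22, 35, 33, 43, 24, 20, 40, 32, 36,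 0, 31, 2, 12, 34, 29, 44, 5, 38, 41, 6, 11, 42, 28, 19], #[40, 44, 5, 19, 47, 11, 3, 16, 28, 8, 46, 14, 7, 26, 23, 37, 34, 15, 10, 24, 13, 35, 25, 33, 21, 45, 42, 18, 31, 22, 43, 30, 27, 2, 0, 6, 17, 41, 32, 36, 12, 39, 1, 9, 20, 4, 38, 29], #[41, 4, 42, 9, 10, 6, 45, 17, 7, 18, 15, 12, 43, 22, 20, 13, 14, 27, 25, 11, 36, 31, 32, 24, 29, 21, 23, 30, 19, 44, 0, 38, 39, 34, 28, 33, 40, 16, 47, 1, 2, 46, 37, 35, 5, 26, 8, 3], #[42, 6, 45, 12, 9, 43, 18, 20, 11, 17, 7, 36, 27, 24, 29, 14, 19, 22, 13, 44, 32, 34, 31, 28, 38, 23, 16, 21, 47, 39, 33, 41, 0, 37, 46, 26, 30, 8, 1, 2, 35, 4, 10, 25, 40, 15, 3, 5], #[43, 36, 12, 29, 44, 20, 11, 28, 38, 19, 47, 24, 14, 37, 34, 46, 41, 16, 8, 31, 23, 45, 26, 42, 33, 10, 4, 15, 0, 21, 18, 35,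 25, 6, 2, 9, 13, 1, 30, 27, 17, 40, 5, 7, 22, 3, 39, 32], #[44, 19, 47, 16, 28, 8, 46, 26, 23, 37, 34, 15, 10, 35, 25, 33, 21, 45, 42, 13, 18, 40, 43, 30, 27, 2, 0, 6, 22, 17, 5, 36, 12, 39, 32, 1, 9, 31, 20, 11, 3, 29, 38, 4, 7, 41, 24, 14], #[45, 43, 18, 36, 12, 27, 17, 29, 44, 20, 11, 32, 22, 28, 38, 19, 47, 24, 14, 39, 31, 37, 34, 46, 41, 16, 8, 23, 1, 0, 26, 42, 33, 10, 4, 15, 21, 3, 2, 35, 25, 6, 9, 13, 30, 7, 5, 40], #[46, 10, 37, 18, 15, 45, 26, 27, 17, 25, 13, 43, 35, 32, 36, 22, 20, 30, 21, 12, 40, 38, 39, 29, 44, 31, 24, 0, 11, 5, 41, 47, 1, 28, 19, 34, 2, 14, 3, 4, 42, 8, 16, 33, 6, 23, 7, 9], #[47, 8, 46, 15, 16, 10, 37, 25, 13, 26, 23, 18, 45, 30, 27, 21, 22, 35, 33, 17, 43, 39, 40, 32, 36, 0, 31, 2, 20, 12, 1, 44,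 5, 38, 29, 41, 6, 24, 11, 3, 4, 19, 28, 42, 9, 34, 14, 7]]

/-- The product of indices. -/
def mulI (i j : Fin 48) : Fin 48 := (tbl.getD i.1 #[]).getD j.1 0

/-- The inverse index. -/
def invI : Fin 48 → Fin 48 := ![0, 21, 31, 13, 22, 23, 24, 7, 17, 14, 20, 15, 16, 3, 9, 11, 12, 8, 19, 18, 10, 1, 4, 5, 6, 47, 44, 46, 43, 45, 41, 2, 42, 39, 40, 38, 37, 36, 35, 33, 34, 30, 32, 28, 26, 29, 27, 25]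

/-- The orders. -/
def ord : Fin 48 → ℕ := ![1, 6, 8, 3, 4, 4, 4, 2, 8, 8, 3, 8, 3, 3, 8, 8, 3, 8, 3, 3, 3, 6, 4, 4, 4, 4, 4, 4, 4, 4, 8, 8, 6, 8, 6, 6, 4, 4, 6, 8, 6, 8, 6, 4, 4, 4, 4, 4]

/-- Powers of indices. -/
def pw (i : Fin 48) : ℕ → Fin 48
  | 0 => 0
  | k + 1 => mulI (pw i k) i

theorem el_zero : el 0 = 1 := by decide +kernel
theorem el_mul : ∀ i j, el i * el j = el (mulI i j) := by decide +kernel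
theorem mulI_inv : ∀ i, mulI i (invI i) = 0 ∧ mulI (invI i) i = 0 := by decide +kernel
theorem el_inj' : ∀ i, el i = 1 → i = 0 := by decide +kernel
theorem ord_spec : ∀ i, 0 < ord i ∧ pw i (ord i) = 0 ∧ ∀ m : Fin (ord i), 0 < m.1 → pw i m.1 ≠ 0 := by
  decide +kernel
theorem sum_zero : ∀ i, i ≠ 0 → ∑ k : Fin (ord i), el (pw i k.1) = 0 := by decide +kernel
theorem ord_mem : ∀ i, ord i ∈ [1, 2, 3, 4, 6, 8] := by decide +kernel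

/-- The units. -/
def uel (i : Fin 48) : (Matrix (Fin 2) (Fin 2) K)ˣ :=
  ⟨el i, el (invI i), by rw [el_mul, (mulI_inv i).1, el_zero],
    by rw [el_mul, (mulI_inv i).2, el_zero]⟩

/-- The group. -/
def C : Subgroup (Matrix (Fin 2) (Fin 2) K)ˣ where
  carrier := Set.range uel
  one_mem' := ⟨0, Units.ext el_zero⟩
  mul_mem' := by rintro _ _ ⟨i, rfl⟩ ⟨j, rfl⟩; exact ⟨mulI i j, Units.ext (el_mul i j).symm⟩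
  inv_mem' := by rintro _ ⟨i, rfl⟩; exact ⟨invI i, Units.ext rfl⟩

/-- The element with given index. -/
def cel (i : Fin 48) : ↥C := ⟨uel i, i, rfl⟩

theorem el_pow (i : Fin 48) (k : ℕ) : el i ^ k = el (pw i k) := by
  induction k with
  | zero => rw [pow_zero, pw, el_zero]
  | succ k ih => rw [pow_succ, ih, el_mul, pw]

theorem cel_pow_eq_one (i : Fin 48) (k : ℕ) : cel i ^ k = 1 ↔ pw i k = 0 := by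
  rw [Subtype.ext_iff, Units.ext_iff]
  show el i ^ k = 1 ↔ _
  rw [el_pow]
  exact ⟨el_inj' _, fun h => by rw [h, el_zero]⟩

theorem orderOf_cel (i : Fin 48) : orderOf (cel i) = ord i :=
  orderOf_of_table (ord_spec i).1 ((cel_pow_eq_one i _).mpr (ord_spec i).2.1)
    fun m hm h0 h => (ord_spec i).2.2 ⟨m, hm⟩ h0 ((cel_pow_eq_one i m).mp h)

theorem cel_surjective : Function.Surjective cel := by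
  rintro ⟨_, i, rfl⟩; exact ⟨i, rfl⟩

theorem range_orderOf : Set.range (orderOf : ↥C → ℕ) = Set.range ord := by
  rw [← cel_surjective.range_comp]
  exact congrArg Set.range (funext orderOf_cel)

theorem fix_free (c : ↥C) (hc : c ≠ 1) : ∑ i ∈ Finset.range (orderOf c),
    ((c : (Matrix (Fin 2) (Fin 2) K)ˣ) : Matrix (Fin 2) (Fin 2) K) ^ i = 0 := by
  obtain ⟨i, rfl⟩ := cel_surjective c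
  rw [orderOf_cel, Finset.sum_range]
  show ∑ k : Fin (ord i), el i ^ k.1 = 0
  simp only [el_pow]
  exact sum_zero i fun h => hc (by subst h; exact Subtype.ext (Units.ext el_zero))

theorem card_lt : Nat.card ↥C < 60 :=
  lt_of_le_of_lt (Nat.card_le_card_of_surjective cel cel_surjective) (by simp)

end CfsgLib.Spectrum.FpfFortyEight
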