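import Cfsg.Agent.Lib.Spectrum.FrobeniusMatrix

/-!
A fixed-point-free group of 24 matrices of degree two over a field with 7² elements.
-/

set_option autoImplicit false
set_option maxRecDepth 100000
set_option maxHeartbeats 2000000

namespace CfsgLib.Spectrum.FpfTwentyFour

open CfsgLib.Spectrum.FrobMat

/-- The field, as a quadratic algebra. -/
abbrev K : Type := QuadraticAlgebra (ZMod 7) 6 0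

/-- The elements. -/
def el : Fin 24 → Matrix (Fin 2) (Fin 2) K :=
  ![!![⟨1, 0⟩, ⟨0, 0⟩; ⟨0, 0⟩, ⟨1, 0⟩], !![⟨2, 0⟩, ⟨0, 0⟩; ⟨0, 0⟩, ⟨4, 0⟩], !![⟨0, 0⟩, ⟨0, 1⟩; ⟨1, 0⟩, ⟨0, 0⟩], !![⟨4, 0⟩, ⟨0, 0⟩; ⟨0, 0⟩, ⟨2, 0⟩], !![⟨0, 0⟩, ⟨0, 2⟩; ⟨4, 0⟩, ⟨0, 0⟩], !![⟨0, 0⟩, ⟨0, 4⟩; ⟨2, 0⟩, ⟨0, 0⟩], !![⟨0, 1⟩, ⟨0, 0⟩; ⟨0, 0⟩, ⟨0, 1⟩], !![⟨0, 2⟩, ⟨0, 0⟩; ⟨0, 0⟩, ⟨0, 4⟩], !![⟨0, 4⟩, ⟨0, 0⟩; ⟨0, 0⟩, ⟨0, 2⟩], !![⟨0, 0⟩, ⟨6, 0⟩; ⟨0, 1⟩, ⟨0, 0⟩], !![⟨0, 0⟩, ⟨5, 0⟩; ⟨0, 4⟩, ⟨0, 0⟩], !![⟨0, 0⟩, ⟨3, 0⟩; ⟨0, 2⟩, ⟨0, 0⟩], !![⟨6, 0⟩, ⟨0, 0⟩; ⟨0, 0⟩, ⟨6, 0⟩], !![⟨5, 0⟩, ⟨0, 0⟩; ⟨0, 0⟩, ⟨3, 0⟩], !![⟨3, 0⟩, ⟨0, 0⟩; ⟨0, 0⟩, ⟨5, 0⟩], !![⟨0, 0⟩, ⟨0, 6⟩; ⟨6, 0⟩, ⟨0, 0⟩], !![⟨0, 0⟩, ⟨0, 5⟩; ⟨3, 0⟩, ⟨0, 0⟩], !![⟨0, 0⟩, ⟨0, 3⟩; ⟨5, 0⟩, ⟨0, 0⟩], !![⟨0, 6⟩, ⟨0, 0⟩; ⟨0, 0⟩, ⟨0, 6⟩], !![⟨0,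 5⟩, ⟨0, 0⟩; ⟨0, 0⟩, ⟨0, 3⟩], !![⟨0, 3⟩, ⟨0, 0⟩; ⟨0, 0⟩, ⟨0, 5⟩], !![⟨0, 0⟩, ⟨1, 0⟩; ⟨0, 6⟩, ⟨0, 0⟩], !![⟨0, 0⟩, ⟨2, 0⟩; ⟨0, 3⟩, ⟨0, 0⟩], !![⟨0, 0⟩, ⟨4, 0⟩; ⟨0, 5⟩, ⟨0, 0⟩]]

/-- The multiplication table. -/
def tbl : Array (Array (Fin 24)) :=
  #[#[0, 1, 2, 3, 4, 5, 6, 7, 8, 9, 10, 11, 12, 13, 14, 15, 16, 17, 18, 19, 20, 21, 22, 23], #[1, 3, 4, 0, 5, 2, 7, 8, 6, 10, 11, 9, 13, 14, 12, 16, 17, 15, 19, 20, 18, 22, 23, 21], #[2, 5, 6, 4, 8, 7, 9, 11, 10, 12, 14, 13, 15, 17, 16, 18, 20, 19, 21, 23, 22, 0, 3, 1], #[3, 0, 5, 1, 2, 4, 8, 6, 7, 11, 9, 10, 14, 12, 13, 17, 15, 16, 20, 18, 19, 23, 21, 22], #[4, 2, 7, 5, 6, 8, 10, 9, 11, 13, 12, 14, 16, 15, 17, 19, 18, 20, 22, 21, 23, 1, 0, 3], #[5, 4, 8, 2, 7, 6, 11, 10, 9, 14, 13, 12, 17, 16, 15, 20, 19, 18, 23,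 22, 21, 3, 1, 0], #[6, 7, 9, 8, 10, 11, 12, 13, 14, 15, 16, 17, 18, 19, 20, 21, 22, 23, 0, 1, 3, 2, 4, 5], #[7, 8, 10, 6, 11, 9, 13, 14, 12, 16, 17, 15, 19, 20, 18, 22, 23, 21, 1, 3, 0, 4, 5, 2], #[8, 6, 11, 7, 9, 10, 14, 12, 13, 17, 15, 16, 20, 18, 19, 23, 21, 22, 3, 0, 1, 5, 2, 4], #[9, 11, 12, 10, 14, 13, 15, 17, 16, 18, 20, 19, 21, 23, 22, 0, 3, 1, 2, 5, 4, 6, 8, 7], #[10, 9, 13, 11, 12, 14, 16, 15, 17, 19, 18, 20, 22, 21, 23, 1, 0, 3, 4, 2, 5, 7, 6, 8], #[11, 10, 14, 9, 13, 12, 17, 16, 15, 20, 19, 18, 23, 22, 21, 3, 1, 0, 5, 4, 2, 8, 7, 6], #[12, 13, 15, 14, 16, 17, 18, 19, 20, 21, 22, 23, 0, 1, 3, 2, 4, 5, 6, 7, 8, 9, 10, 11], #[13, 14, 16, 12, 17, 15, 19, 20, 18, 22, 23, 21, 1, 3, 0, 4, 5, 2, 7, 8, 6, 10, 11, 9], #[14, 12, 17, 13, 15, 16, 20,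 18, 19, 23, 21, 22, 3, 0, 1, 5, 2, 4, 8, 6, 7, 11, 9, 10], #[15, 17, 18, 16, 20, 19, 21, 23, 22, 0, 3, 1, 2, 5, 4, 6, 8, 7, 9, 11, 10, 12, 14, 13], #[16, 15, 19, 17, 18, 20, 22, 21, 23, 1, 0, 3, 4, 2, 5, 7, 6, 8, 10, 9, 11, 13, 12, 14], #[17, 16, 20, 15, 19, 18, 23, 22, 21, 3, 1, 0, 5, 4, 2, 8, 7, 6, 11, 10, 9, 14, 13, 12], #[18, 19, 21, 20, 22, 23, 0, 1, 3, 2, 4, 5, 6, 7, 8, 9, 10, 11, 12, 13, 14, 15, 16, 17], #[19, 20, 22, 18, 23, 21, 1, 3, 0, 4, 5, 2, 7, 8, 6, 10, 11, 9, 13, 14, 12, 16, 17, 15], #[20, 18, 23, 19, 21, 22, 3, 0, 1, 5, 2, 4, 8, 6, 7, 11, 9, 10, 14, 12, 13, 17, 15, 16], #[21, 23, 0, 22, 3, 1, 2, 5, 4, 6, 8, 7, 9, 11, 10, 12, 14, 13, 15, 17, 16, 18, 20, 19], #[22, 21, 1, 23, 0, 3, 4, 2, 5, 7, 6, 8, 10, 9, 11, 13, 12, 14, 16, 15, 17, 19,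 18, 20], #[23, 22, 3, 21, 1, 0, 5, 4, 2, 8, 7, 6, 11, 10, 9, 14, 13, 12, 17, 16, 15, 20, 19, 18]]

/-- The product of indices. -/
def mulI (i j : Fin 24) : Fin 24 := (tbl.getD i.1 #[]).getD j.1 0

/-- The inverse index. -/
def invI : Fin 24 → Fin 24 := ![0, 3, 21, 1, 22, 23, 18, 20, 19, 15, 16, 17, 12, 14, 13, 9, 10, 11, 6, 8, 7, 2, 4, 5]

/-- The orders. -/
def ord : Fin 24 → ℕ := ![1, 3, 8, 3, 8, 8, 4, 12, 12, 8, 8, 8, 2, 6, 6, 8, 8, 8, 4, 12, 12, 8, 8, 8]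

/-- Powers of indices. -/
def pw (i : Fin 24) : ℕ → Fin 24
  | 0 => 0
  | k + 1 => mulI (pw i k) i

theorem el_zero : el 0 = 1 := by decide +kernel
theorem el_mul : ∀ i j, el i * el j = el (mulI i j) := by decide +kernel
theorem mulI_inv : ∀ i, mulI i (invI i) = 0 ∧ mulI (invI i) i = 0 := by decide +kernel
theorem el_inj' : ∀ i, el i = 1 → i = 0 := by decide +kernel
theorem ord_spec : ∀ i, 0 < ord i ∧ pw i (ord i) = 0 ∧ ∀ m : Fin (ord i), 0 < m.1 → pw i m.1 ≠ 0 := by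
  decide +kernel
theorem sum_zero : ∀ i, i ≠ 0 → ∑ k : Fin (ord i), el (pw i k.1) = 0 := by decide +kernel
theorem ord_mem : ∀ i, ord i ∈ [1, 2, 3, 4, 6, 8, 12] := by decide +kernel

/-- The units. -/
def uel (i : Fin 24) : (Matrix (Fin 2) (Fin 2) K)ˣ :=
  ⟨el i, el (invI i), by rw [el_mul, (mulI_inv i).1, el_zero],
    by rw [el_mul, (mulI_inv i).2, el_zero]⟩

/-- The group. -/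
def C : Subgroup (Matrix (Fin 2) (Fin 2) K)ˣ where
  carrier := Set.range uel
  one_mem' := ⟨0, Units.ext el_zero⟩
  mul_mem' := by rintro _ _ ⟨i, rfl⟩ ⟨j, rfl⟩; exact ⟨mulI i j, Units.ext (el_mul i j).symm⟩
  inv_mem' := by rintro _ ⟨i, rfl⟩; exact ⟨invI i, Units.ext rfl⟩

/-- The element with given index. -/
def cel (i : Fin 24) : ↥C := ⟨uel i, i, rfl⟩

theorem el_pow (i : Fin 24) (k : ℕ) : el i ^ k = el (pw i k) := by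
  induction k with
  | zero => rw [pow_zero, pw, el_zero]
  | succ k ih => rw [pow_succ, ih, el_mul, pw]

theorem cel_pow_eq_one (i : Fin 24) (k : ℕ) : cel i ^ k = 1 ↔ pw i k = 0 := by
  rw [Subtype.ext_iff, Units.ext_iff]
  show el i ^ k = 1 ↔ _
  rw [el_pow]
  exact ⟨el_inj' _, fun h => by rw [h, el_zero]⟩

theorem orderOf_cel (i : Fin 24) : orderOf (cel i) = ord i :=
  orderOf_of_table (ord_spec i).1 ((cel_pow_eq_one i _).mpr (ord_spec i).2.1)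
    fun m hm h0 h => (ord_spec i).2.2 ⟨m, hm⟩ h0 ((cel_pow_eq_one i m).mp h)

theorem cel_surjective : Function.Surjective cel := by
  rintro ⟨_, i, rfl⟩; exact ⟨i, rfl⟩

theorem range_orderOf : Set.range (orderOf : ↥C → ℕ) = Set.range ord := by
  rw [← cel_surjective.range_comp]
  exact congrArg Set.range (funext orderOf_cel)

theorem fix_free (c : ↥C) (hc : c ≠ 1) : ∑ i ∈ Finset.range (orderOf c),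
    ((c : (Matrix (Fin 2) (Fin 2) K)ˣ) : Matrix (Fin 2) (Fin 2) K) ^ i = 0 := by
  obtain ⟨i, rfl⟩ := cel_surjective c
  rw [orderOf_cel, Finset.sum_range]
  show ∑ k : Fin (ord i), el i ^ k.1 = 0
  simp only [el_pow]
  exact sum_zero i fun h => hc (by subst h; exact Subtype.ext (Units.ext el_zero))

theorem card_lt : Nat.card ↥C < 60 :=
  lt_of_le_of_lt (Nat.card_le_card_of_surjective cel cel_surjective) (by simp)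

end CfsgLib.Spectrum.FpfTwentyFour
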