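import Mathlib

/-!
Frobenius groups `K² ⋊ C` with `C` a fixed-point-free matrix group: their element orders.
-/

set_option autoImplicit false
set_option linter.style.haveILetI false

namespace CfsgLib.Spectrum.FrobMat

open Matrix

variable {K : Type} [CommRing K] (C : Subgroup (Matrix (Fin 2) (Fin 2) K)ˣ)

/-- The action on the vectors. -/
def act : ↥C →* MulAut (Multiplicative (Fin 2 → K)) where
  toFun c :=
    { toFun := fun v => Multiplicative.ofAdd (((c : (Matrix (Fin 2) (Fin 2) K)ˣ) : Matrix (Fin 2) (Fin 2) K) *ᵥ Multiplicative.toAdd v)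
      invFun := fun v => Multiplicative.ofAdd (((c⁻¹ : ↥C) : (Matrix (Fin 2) (Fin 2) K)ˣ).1 *ᵥ Multiplicative.toAdd v)
      left_inv := fun v => by
        show Multiplicative.ofAdd (_ *ᵥ (_ *ᵥ Multiplicative.toAdd v)) = v
        rw [mulVec_mulVec, ← Units.val_mul, ← Subgroup.coe_mul, inv_mul_cancel, OneMemClass.coe_one,
          Units.val_one, one_mulVec]
        rfl
      right_inv := fun v => by
        show Multiplicative.ofAdd (_ *ᵥ (_ *ᵥ Multiplicative.toAdd v)) = v
        rw [mulVec_mulVec, ← Units.val_mul, ← Subgroup.coe_mul, mul_inv_cancel, OneMemClass.coe_one,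
          Units.val_one, one_mulVec]
        rfl
      map_mul' := fun v w => congrArg Multiplicative.ofAdd (mulVec_add _ _ _) }
  map_one' := MulEquiv.ext fun v => congrArg Multiplicative.ofAdd (one_mulVec _)
  map_mul' a b := MulEquiv.ext fun v => by
    show Multiplicative.ofAdd
        (((a * b : ↥C) : (Matrix (Fin 2) (Fin 2) K)ˣ).1 *ᵥ Multiplicative.toAdd v) =
      Multiplicative.ofAdd ((a : (Matrix (Fin 2) (Fin 2) K)ˣ).1 *ᵥ
        ((b : (Matrix (Fin 2) (Fin 2) K)ˣ).1 *ᵥ Multiplicative.toAdd v))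
    rw [mulVec_mulVec, Subgroup.coe_mul, Units.val_mul]

/-- The group. -/
abbrev Grp : Type := Multiplicative (Fin 2 → K) ⋊[act C] ↥C

theorem pow_left (x : Grp C) (k : ℕ) :
    Multiplicative.toAdd (x ^ k).left =
      (∑ i ∈ Finset.range k, ((x.right : (Matrix (Fin 2) (Fin 2) K)ˣ) : Matrix (Fin 2) (Fin 2) K) ^ i) *ᵥ
        Multiplicative.toAdd x.left ∧ (x ^ k).right = x.right ^ k := by
  induction k with
  | zero => simp
  | succ k ih =>
    refine ⟨?_, by rw [pow_succ, SemidirectProduct.mul_right, ih.2, pow_succ]⟩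
    rw [pow_succ, SemidirectProduct.mul_left, toAdd_mul, ih.1, Finset.sum_range_succ, add_mulVec,
      ih.2]
    congr 1

theorem orders {p : ℕ} (hp : p.Prime) (hK : (p : K) = 0) [Nontrivial K]
    (hfix : ∀ c : ↥C, c ≠ 1 → ∑ i ∈ Finset.range (orderOf c),
      ((c : (Matrix (Fin 2) (Fin 2) K)ˣ) : Matrix (Fin 2) (Fin 2) K) ^ i = 0) :
    Set.range (orderOf : Grp C → ℕ) = insert p (Set.range (orderOf : ↥C → ℕ)) := by
  haveI := Fact.mk hp
  ext n
  constructor
  · rintro ⟨x, rfl⟩
    by_cases hc : x.right = 1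
    · have hxp : x ^ p = 1 := by
        obtain ⟨h1, h2⟩ := pow_left C x p
        refine SemidirectProduct.ext ?_ (by rw [h2, hc, one_pow]; rfl)
        apply Multiplicative.toAdd.injective
        rw [h1, hc]
        simp only [OneMemClass.coe_one, Units.val_one, one_pow, Finset.sum_const, Finset.card_range]
        rw [smul_mulVec, one_mulVec, ← Nat.cast_smul_eq_nsmul K, hK, zero_smul]
        rfl
      rcases (Nat.dvd_prime hp).mp (orderOf_dvd_of_pow_eq_one hxp) with h | h
      · exact Or.inr ⟨1, by rw [h, orderOf_one]⟩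
      · exact Or.inl h
    · refine Or.inr ⟨x.right, Nat.dvd_antisymm (orderOf_map_dvd SemidirectProduct.rightHom x) ?_⟩
      apply orderOf_dvd_of_pow_eq_one
      obtain ⟨h1, h2⟩ := pow_left C x (orderOf x.right)
      refine SemidirectProduct.ext ?_ (by rw [h2, pow_orderOf_eq_one]; rfl)
      apply Multiplicative.toAdd.injective
      rw [h1, hfix _ hc, zero_mulVec]
      rfl
  · rintro (rfl | ⟨c, rfl⟩)
    · obtain ⟨v, hv⟩ : ∃ v : Fin 2 → K, v ≠ 0 := ⟨fun _ => 1, fun h => one_ne_zero (congrFun h 0)⟩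
      refine ⟨SemidirectProduct.inl (Multiplicative.ofAdd v), ?_⟩
      rw [orderOf_injective _ SemidirectProduct.inl_injective]
      refine orderOf_eq_prime ?_ (fun h => hv (Multiplicative.ofAdd.injective h))
      rw [← ofAdd_nsmul, ← Nat.cast_smul_eq_nsmul K, hK, zero_smul]
      rfl
    · exact ⟨SemidirectProduct.inr c, orderOf_injective _ SemidirectProduct.inr_injective c⟩

theorem isSolvable (hC : Group.IsSolvable ↥C) : Group.IsSolvable (Grp C) :=
  Group.isSolvable_of_ker_le_range (f := (SemidirectProduct.inl : Multiplicative (Fin 2 → K) →* Grp C))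
    (g := SemidirectProduct.rightHom) (by rw [SemidirectProduct.range_inl_eq_ker_rightHom])

theorem orderOf_of_table {M : Type*} [Monoid M] {x : M} {o : ℕ} (ho : 0 < o) (h1 : x ^ o = 1)
    (h2 : ∀ m < o, 0 < m → x ^ m ≠ 1) : orderOf x = o :=
  (orderOf_eq_iff ho).mpr ⟨h1, h2⟩

end CfsgLib.Spectrum.FrobMat
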