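import Mathlib
import Cfsg.Agent.Lib.Spectrum.Extension
import Cfsg.Agent.Lib.Spectrum.Alternating
import Cfsg.Agent.Lib.Perm.Isospectral

/-!
The alternating group of degree eight acting on the heart of its binary permutation module: an
extension with element orders 1, ..., 8, 10, 12, 15.
-/

set_option autoImplicit false
set_option linter.style.haveILetI false

namespace CfsgLib.HeartEight

open CfsgLib.SpectrumExt Equiv

/-- vectors: even functions vanishing at the last point, by their first six values -/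
abbrev W := Fin 6 → ZMod 2

/-- the even function of a vector -/
def ext (v : W) : Fin 8 → ZMod 2 := fun i =>
  if h : (i : ℕ) < 6 then v ⟨i, h⟩ else if (i : ℕ) = 6 then ∑ j, v j else 0

/-- a function modulo constants -/
def red (f : Fin 8 → ZMod 2) : W := fun i => f ⟨i, by omega⟩ + f 7

theorem red_ext (v : W) : red (ext v) = v := by
  funext i
  simp [red, ext, i.2]

theorem ext_red (f : Fin 8 → ZMod 2) (hf : ∑ i, f i = 0) : ext (red f) = fun i => f i + f 7 := by
  have h2 : ∀ x : ZMod 2, x + x = 0 := fun x => CharTwo.add_self_eq_zero x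
  funext i
  unfold ext
  split_ifs with h h'
  · rfl
  · obtain rfl : i = 6 := Fin.ext h'
    rw [Fin.sum_univ_eight] at hf
    rw [Fin.sum_univ_six]
    simp only [red]
    show (f 0 + f 7) + (f 1 + f 7) + (f 2 + f 7) + (f 3 + f 7) + (f 4 + f 7) + (f 5 + f 7) = f 6 + f 7
    linear_combination hf + (-1 : ZMod 2) * h2 (f 6) + 2 * h2 (f 7)
  · obtain rfl : i = 7 := Fin.ext (by omega)
    exact (h2 _).symm

theorem sum_ext (v : W) : ∑ i, ext v i = 0 := by
  rw [Fin.sum_univ_eight]
  simp only [ext, Fin.sum_univ_six]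
  simp
  ring_nf
  have h2 : (2 : ZMod 2) = 0 := by decide
  simp [h2]

/-- the action on vectors -/
def perm (g : Perm (Fin 8)) (v : W) : W := red fun i => ext v (g⁻¹ i)

theorem perm_one (v : W) : perm 1 v = v := by simpa [perm] using red_ext v

theorem perm_mul (g h : Perm (Fin 8)) (v : W) : perm (g * h) v = perm g (perm h v) := by
  have hs : ∑ i, ext v (h⁻¹ i) = 0 := by rw [Equiv.sum_comp h⁻¹ (ext v)]; exact sum_ext v
  unfold perm
  rw [ext_red _ hs]
  funext i
  simp only [red, mul_inv_rev, Perm.mul_apply]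
  have h2 : ∀ x : ZMod 2, x + x = 0 := fun x => CharTwo.add_self_eq_zero x
  linear_combination (-1 : ZMod 2) * h2 (ext v (h⁻¹ 7))

theorem perm_add (g : Perm (Fin 8)) (v w : W) : perm g (v + w) = perm g v + perm g w := by
  have he : ext (v + w) = ext v + ext w := by
    funext i
    simp only [ext, Pi.add_apply]
    split_ifs <;> simp [Finset.sum_add_distrib]
  funext i
  simp only [perm, red, he, Pi.add_apply]
  ring

/-- the module -/
abbrev M := Multiplicative W

/-- the action of the symmetric group -/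
def actS : Perm (Fin 8) →* MulAut M where
  toFun g := AddEquiv.toMultiplicative
    { toFun := perm g
      invFun := perm g⁻¹
      left_inv := fun v => by rw [← perm_mul, inv_mul_cancel, perm_one]
      right_inv := fun v => by rw [← perm_mul, mul_inv_cancel, perm_one]
      map_add' := perm_add g }
  map_one' := MulEquiv.ext fun v => congrArg Multiplicative.ofAdd (perm_one v.toAdd)
  map_mul' g h := MulEquiv.ext fun v => congrArg Multiplicative.ofAdd (perm_mul g h v.toAdd)

/-- the action of the alternating group -/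
def act : alternatingGroup (Fin 8) →* MulAut M := actS.comp (alternatingGroup (Fin 8)).subtype

/-- the extension -/
abbrev Ext := M ⋊[act] alternatingGroup (Fin 8)

theorem exp2 (v : M) : v ^ 2 = 1 := by
  apply Multiplicative.toAdd.injective
  funext x
  simp only [toAdd_pow, toAdd_one, Pi.smul_apply, nsmul_eq_mul, Pi.zero_apply]
  rw [show ((2 : ℕ) : ZMod 2) = 0 from ZMod.natCast_self 2, zero_mul]

theorem orderOf_eight (g : alternatingGroup (Fin 8)) :
    orderOf g ∈ ({1, 2, 3, 4, 5, 6, 7, 15} : Finset ℕ) := by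
  obtain ⟨S, hS, hc, he⟩ := CfsgLib.AltSpectrum.alt_cycle_set g
  have key : ∀ S ∈ (Finset.Icc 2 8).powerset,
      (S.sum id + 2 ≤ 8 ∨ (S.sum id ≤ 8 ∧ (S.sum id + S.card) % 2 = 0)) →
        S.lcm id ∈ ({1, 2, 3, 4, 5, 6, 7, 15} : Finset ℕ) := by decide +kernel
  rw [he]; exact key S hS hc

/-- a seven-cycle -/
def seven : Perm (Fin 8) := c[(0 : Fin 8), 1, 2, 3, 4, 5, 6]

/-- a five-cycle and a three-cycle -/
def fifteen : Perm (Fin 8) := c[(0 : Fin 8), 1, 2, 3, 4] * c[5, 6, 7]

theorem fpf_reps : (∀ v : W, perm seven v = v → v = 0) ∧ ∀ v : W, perm fifteen v = v → v = 0 := by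
  decide +kernel

theorem rep_types : seven.cycleType = {7} ∧ fifteen.cycleType = {5, 3} := by
  decide +kernel

theorem conj_rep (g : alternatingGroup (Fin 8)) :
    (orderOf g = 7 → IsConj (g : Perm (Fin 8)) seven) ∧
      (orderOf g = 15 → IsConj (g : Perm (Fin 8)) fifteen) := by
  set σ := (g : Perm (Fin 8))
  have hsum : σ.cycleType.sum ≤ 8 := by
    rw [Perm.sum_cycleType]
    simpa using σ.support.card_le_univ
  have hlcm : σ.cycleType.lcm = orderOf g := by rw [Perm.lcm_cycleType, Subgroup.orderOf_coe]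
  have hdvd : ∀ n ∈ σ.cycleType, n ∣ orderOf g ∧ 2 ≤ n ∧ n ≤ 8 := fun n hn =>
    ⟨hlcm ▸ Multiset.dvd_lcm hn, Perm.two_le_of_mem_cycleType hn,
      (Multiset.single_le_sum (fun _ _ => Nat.zero_le _) n hn).trans hsum⟩
  refine ⟨fun h => ?_, fun h => ?_⟩ <;> rw [Perm.isConj_iff_cycleType_eq]
  · rw [rep_types.1]
    have h7 : 7 ∈ σ.cycleType := by
      obtain ⟨n, hn⟩ := Multiset.exists_mem_of_ne_zero (s := σ.cycleType) fun e => by
        rw [e, Multiset.lcm_zero, h] at hlcm; exact absurd hlcm (by norm_num)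
      obtain ⟨hd, h2, -⟩ := hdvd n hn
      rw [h] at hd
      rcases (Nat.dvd_prime (by norm_num)).1 hd with e | e
      · omega
      · exact e ▸ hn
    obtain ⟨R, hR⟩ := Multiset.exists_cons_of_mem h7
    rw [hR] at hsum hdvd ⊢
    rw [Multiset.sum_cons] at hsum
    rcases Multiset.empty_or_exists_mem R with e | ⟨n, hn⟩
    · rw [e]; rfl
    · have := Multiset.single_le_sum (fun _ _ => Nat.zero_le _) n hn
      have := (hdvd n (Multiset.mem_cons_of_mem hn)).2.1
      omega
  · rw [rep_types.2]
    have hsel : ∀ p, p.Prime → p ∣ 15 → ∃ n ∈ σ.cycleType, p ∣ n := by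
      intro p hp hp15
      by_contra hcon
      push Not at hcon
      have hd : σ.cycleType.lcm ∣ 15 / p := Multiset.lcm_dvd.2 fun n hn => by
        obtain ⟨hd, h2, h8⟩ := hdvd n hn
        rw [h] at hd
        have key : ∀ p ∈ List.range 16, ∀ n ∈ List.range 9,
            p ≠ 15 → ¬ (15 % p = 0 ∧ 2 ≤ n ∧ 15 % n = 0 ∧ n % p ≠ 0 ∧ (15 / p) % n ≠ 0) := by decide +kernel
        have hp' : p < 16 := Nat.lt_succ_of_le (Nat.le_of_dvd (by norm_num) hp15)
        by_contra hne
        refine key p (List.mem_range.2 hp') n (List.mem_range.2 (by omega)) (fun e => by rw [e] at hp; norm_num at hp)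
          ⟨Nat.mod_eq_zero_of_dvd hp15, h2, Nat.mod_eq_zero_of_dvd hd, fun e => hcon n hn (Nat.dvd_of_mod_eq_zero e),
            fun e => hne (Nat.dvd_of_mod_eq_zero e)⟩
      rw [hlcm, h] at hd
      have key : ∀ p < 16, p ∣ 15 → 1 < p → ¬ 15 ∣ 15 / p := by decide +kernel
      exact key p (Nat.lt_succ_of_le (Nat.le_of_dvd (by norm_num) hp15)) hp15 hp.one_lt hd
    obtain ⟨a, ha, ha5⟩ := hsel 5 (by norm_num) (by norm_num)
    obtain ⟨b, hb, hb3⟩ := hsel 3 (by norm_num) (by norm_num)
    obtain ⟨hd, h2, h8⟩ := hdvd a ha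
    obtain ⟨hd', h2', h8'⟩ := hdvd b hb
    rw [h] at hd hd'
    obtain rfl : a = 5 := by interval_cases a <;> norm_num at *
    obtain rfl : b = 3 := by interval_cases b <;> norm_num at *
    obtain ⟨R, hR⟩ := Multiset.exists_cons_of_mem ha
    rw [hR, Multiset.mem_cons] at hb
    obtain ⟨R', rfl⟩ := Multiset.exists_cons_of_mem (hb.resolve_left (by norm_num))
    rw [hR] at hsum hdvd ⊢
    rw [Multiset.sum_cons, Multiset.sum_cons] at hsum
    rcases Multiset.empty_or_exists_mem R' with e | ⟨n, hn⟩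
    · rw [e]; rfl
    · have := Multiset.single_le_sum (fun _ _ => Nat.zero_le _) n hn
      have := (hdvd n (Multiset.mem_cons_of_mem (Multiset.mem_cons_of_mem hn))).2.1
      omega

theorem norm_trivial (g : alternatingGroup (Fin 8)) (h : orderOf g = 7 ∨ orderOf g = 15) (v : M) :
    norm act g v = 1 := by
  refine norm_eq_one_of_fpf act g (fun w hw => ?_) v
  have hw' : perm (g : Perm (Fin 8)) w.toAdd = w.toAdd := congrArg Multiplicative.toAdd hw
  obtain ⟨r, hr, hfpf⟩ : ∃ r, IsConj (g : Perm (Fin 8)) r ∧ ∀ v : W, perm r v = v → v = 0 := by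
    rcases h with h | h
    · exact ⟨_, (conj_rep g).1 h, fpf_reps.1⟩
    · exact ⟨_, (conj_rep g).2 h, fpf_reps.2⟩
  obtain ⟨c, hc⟩ := isConj_iff.1 hr
  have h0 := hfpf (perm c w.toAdd) (by rw [← perm_mul, ← hc, inv_mul_cancel_right, perm_mul, hw'])
  have h1 : perm c⁻¹ (perm c w.toAdd) = w.toAdd := by rw [← perm_mul, inv_mul_cancel, perm_one]
  rw [h0] at h1
  apply Multiplicative.toAdd.injective
  rw [← h1]
  have := perm_add c⁻¹ 0 0
  rw [add_zero] at this
  simpa using this

theorem witness {n : ℕ} (σ : Perm (Fin 8)) (v : W) (hs : Perm.sign σ = 1) (hpow : σ ^ n = 1)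
    (hn : 0 < n) (hlt : ∀ k < n, 0 < k → σ ^ k ≠ 1)
    (hv : ((List.range n).map fun i => perm (σ ^ i) v).sum ≠ 0) :
    ∃ a : alternatingGroup (Fin 8), (∃ w, norm act a w ≠ 1) ∧ orderOf a = n := by
  set a : alternatingGroup (Fin 8) := ⟨σ, Perm.mem_alternatingGroup.mpr hs⟩
  have ho : orderOf a = n := by rw [← Subgroup.orderOf_coe, orderOf_eq_iff hn]; exact ⟨hpow, hlt⟩
  refine ⟨a, ⟨Multiplicative.ofAdd v, fun e => hv ?_⟩, ho⟩
  have e' := congrArg Multiplicative.toAdd e
  rw [CfsgLib.SpectrumExt.norm, normPow, ho, toAdd_prod, toAdd_one] at e'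
  rw [← e', ← List.sum_toFinset _ List.nodup_range, List.toFinset_range]
  exact Finset.sum_congr rfl fun i _ => rfl

/-- The element orders of the extension. -/
theorem range_orderOf :
    Set.range (orderOf : Ext → ℕ) = {1, 2, 3, 4, 5, 6, 7, 8, 10, 12, 15} := by
  rw [range_eq act Nat.prime_two exp2]
  refine Set.Subset.antisymm ?_ ?_
  · rintro n (⟨g, rfl⟩ | ⟨g, ⟨v, hv⟩, rfl⟩)
    · have := orderOf_eight g
      simp only [Finset.mem_insert, Finset.mem_singleton] at this
      rcases this with e | e | e | e | e | e | e | e <;> simp [e]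
    · have := orderOf_eight g
      simp only [Finset.mem_insert, Finset.mem_singleton] at this
      rcases this with e | e | e | e | e | e | e | e <;>
        first
        | exact absurd (norm_trivial g (Or.inl e) v) hv
        | exact absurd (norm_trivial g (Or.inr e) v) hv
        | simp [e]
  · intro n hn
    simp only [Set.mem_insert_iff, Set.mem_singleton_iff] at hn
    rcases hn with rfl | rfl | rfl | rfl | rfl | rfl | rfl | rfl | rfl | rfl | rfl
    · exact Or.inl ⟨1, orderOf_one⟩
    · exact Or.inl (CfsgLib.AltSpectrum.mem_range 2 (c[(0 : Fin 8), 1] * c[2, 3]) (by decide +kernel) (by decide +kernel) (by omega) (by decide +kernel))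
    · exact Or.inl (CfsgLib.AltSpectrum.mem_range 3 (c[(0 : Fin 8), 1, 2]) (by decide +kernel) (by decide +kernel) (by omega) (by decide +kernel))
    · exact Or.inl (CfsgLib.AltSpectrum.mem_range 4 (c[(0 : Fin 8), 1, 2, 3] * c[4, 5]) (by decide +kernel) (by decide +kernel) (by omega) (by decide +kernel))
    · exact Or.inl (CfsgLib.AltSpectrum.mem_range 5 (c[(0 : Fin 8), 1, 2, 3, 4]) (by decide +kernel) (by decide +kernel) (by omega) (by decide +kernel))
    · exact Or.inl (CfsgLib.AltSpectrum.mem_range 6 (c[(0 : Fin 8), 1, 2] * (c[3, 4] * c[5, 6])) (by decide +kernel) (by decide +kernel) (by omega) (by decide +kernel))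
    · exact Or.inl (CfsgLib.AltSpectrum.mem_range 7 seven (by decide +kernel) (by decide +kernel) (by omega) (by decide +kernel))
    · obtain ⟨a, ha, ho⟩ := witness (n := 4) (c[(0 : Fin 8), 1, 2, 3] * c[4, 5]) ![1, 0, 0, 0, 1, 0]
        (by decide +kernel) (by decide +kernel) (by omega) (by decide +kernel) (by decide +kernel)
      exact Or.inr ⟨a, ha, by rw [ho]⟩
    · obtain ⟨a, ha, ho⟩ := witness (n := 5) (c[(0 : Fin 8), 1, 2, 3, 4]) ![0, 0, 0, 0, 0, 1]
        (by decide +kernel) (by decide +kernel) (by omega) (by decide +kernel) (by decide +kernel)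
      exact Or.inr ⟨a, ha, by rw [ho]⟩
    · obtain ⟨a, ha, ho⟩ := witness (n := 6) (c[(0 : Fin 8), 1, 2] * (c[3, 4] * c[5, 6])) ![1, 0, 0, 1, 0, 0]
        (by decide +kernel) (by decide +kernel) (by omega) (by decide +kernel) (by decide +kernel)
      exact Or.inr ⟨a, ha, by rw [ho]⟩
    · exact Or.inl (CfsgLib.AltSpectrum.mem_range 15 fifteen (by decide +kernel) (by decide +kernel) (by omega) (by decide +kernel))

/-- Arbitrarily large groups with these element orders. -/
theorem exists_large (N : ℕ) : ∃ (H : Type) (_ : Group H) (_ : Fintype H), N < Fintype.card H ∧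
    Set.range (orderOf : H → ℕ) = {1, 2, 3, 4, 5, 6, 7, 8, 10, 12, 15} := by
  haveI : Nontrivial M := ⟨Multiplicative.ofAdd (fun _ => 1), 1, fun e =>
    (by decide : (1 : ZMod 2) ≠ 0) (congrFun (congrArg Multiplicative.toAdd e) 0)⟩
  haveI : Group.IsSolvable (SemidirectProduct.inl : M →* Ext).range :=
    Group.isSolvable_of_surjective (f := (SemidirectProduct.inl : M →* Ext).rangeRestrict)
      (MonoidHom.rangeRestrict_surjective _)
  haveI : (SemidirectProduct.inl : M →* Ext).range.Normal := by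
    rw [SemidirectProduct.range_inl_eq_ker_rightHom]; infer_instance
  obtain ⟨H, i1, i2, hcard, hr⟩ := CfsgLib.Isospectral.exists_large
    (SemidirectProduct.inl : M →* Ext).range (range_ne_bot act) N
  exact ⟨H, i1, i2, hcard, hr.trans range_orderOf⟩

end CfsgLib.HeartEight
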