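import Cfsg.Agent.Lib.Spectrum.UnitaryThreeOdd
import Cfsg.Agent.Lib.ElemOrder.Quotient

/-!
The element orders of `PSL_3(q)`.
-/

set_option autoImplicit false
set_option linter.unusedSectionVars false

namespace CfsgLib.Spectrum.LinearThree

open Matrix Function

/-- The maximal element orders. -/
def Target (p q T : ℕ) : Prop :=
  T = (q ^ 2 + q + 1) / Nat.gcd 3 (q - 1) ∨ T = (q ^ 2 - 1) / Nat.gcd 3 (q - 1) ∨ T = q - 1 ∨
    T = p * (q - 1) / Nat.gcd 3 (q - 1) ∨ (p = 2 ∧ T = 4)

section Arith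

variable (q : ℕ)

theorem gcd_dvd_sq : Nat.gcd 3 (q - 1) ∣ q ^ 2 - 1 :=
  (Nat.gcd_dvd_right 3 (q - 1)).trans ⟨q + 1, by
    rw [mul_comm]; simpa using Nat.sq_sub_sq q 1⟩

theorem N_eq (hq : 1 ≤ q) : q ^ 2 + q + 1 = (q - 1) * (q + 2) + 3 := by
  obtain ⟨j, rfl⟩ : ∃ j, q = j + 1 := ⟨q - 1, by omega⟩
  rw [Nat.add_sub_cancel]; ring

theorem gcd_dvd_N (hq : 1 ≤ q) : Nat.gcd 3 (q - 1) ∣ q ^ 2 + q + 1 := by
  rw [N_eq q hq]
  exact dvd_add ((Nat.gcd_dvd_right _ _).mul_right _) (Nat.gcd_dvd_left _ _)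

theorem gcd_sub_N_dvd (hq : 1 ≤ q) : Nat.gcd (q - 1) (q ^ 2 + q + 1) ∣ Nat.gcd 3 (q - 1) := by
  refine Nat.dvd_gcd ?_ (Nat.gcd_dvd_left _ _)
  have h := Nat.gcd_dvd_right (q - 1) (q ^ 2 + q + 1)
  rw [N_eq q hq] at h ⊢
  exact (Nat.dvd_add_right ((Nat.gcd_dvd_left _ _).mul_right _)).1 h

theorem gcd_dvd_add_two (hq : 1 ≤ q) : Nat.gcd 3 (q - 1) ∣ q + 2 := by
  rw [show q + 2 = (q - 1) + 3 by omega]
  exact dvd_add (Nat.gcd_dvd_right _ _) (Nat.gcd_dvd_left _ _)

end Arith

open UnitaryThreeOdd (dvd_div_mul div_dvd_of pow_one_of_dvd)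

/-! ### Roots -/

section Roots

variable {K : Type*} [Field K] [DecidableEq K] {p q : ℕ}

theorem fix_pow (hq : 1 ≤ q) {a : K} (ha : a ≠ 0) (h : a ^ q = a) : a ^ (q - 1) = 1 := by
  apply mul_left_cancel₀ ha
  rw [← pow_succ', Nat.sub_add_cancel hq, h, mul_one]

/-- Three distinct roots. -/
def Good (p q : ℕ) (a b c : K) : Prop :=
  ∃ k lam, Target p q k ∧ lam ^ q = lam ∧ a ^ k = lam ∧ b ^ k = lam ∧ c ^ k = lam

theorem Good.rot {a b c : K} (h : Good p q a b c) : Good p q b c a := by
  obtain ⟨k, lam, h1, h2, ha, hb, hc⟩ := h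
  exact ⟨k, lam, h1, h2, hb, hc, ha⟩

theorem Good.swap {a b c : K} (h : Good p q a b c) : Good p q b a c := by
  obtain ⟨k, lam, h1, h2, ha, hb, hc⟩ := h
  exact ⟨k, lam, h1, h2, hb, ha, hc⟩

theorem good_fix (hq : 2 ≤ q) {a b c : K} (ha : a ≠ 0) (hb : b ≠ 0) (hc : c ≠ 0) (h1 : a ^ q = a)
    (h2 : b ^ q = b) (h3 : c ^ q = c) : Good p q a b c :=
  ⟨q - 1, 1, Or.inr (Or.inr (Or.inl rfl)), one_pow _, fix_pow (by omega) ha h1,
    fix_pow (by omega) hb h2, fix_pow (by omega) hc h3⟩

theorem good_swap (hq : 2 ≤ q) {a b c : K} (ha : a ≠ 0) (h1 : a ^ q = b) (h2 : b ^ q = a)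
    (habc : a * b * c = 1) : Good p q a b c := by
  set d := Nat.gcd 3 (q - 1)
  set k := (q ^ 2 - 1) / d
  have hsq : a ^ q ^ 2 = a := by rw [sq, pow_mul, h1, h2]
  have hT : a ^ (q ^ 2 - 1) = 1 :=
    fix_pow (Nat.one_le_pow _ _ (by omega)) ha hsq
  have hk1 : a ^ (k * (q - 1)) = 1 :=
    pow_one_of_dvd hT (dvd_div_mul (gcd_dvd_sq q) (Nat.gcd_dvd_right _ _))
  have hk2 : a ^ (k * (q + 2)) = 1 :=
    pow_one_of_dvd hT (dvd_div_mul (gcd_dvd_sq q) (gcd_dvd_add_two q (by omega)))
  have hb : b ^ k = a ^ k := by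
    rw [← h1, ← pow_mul, show q * k = k * (q - 1) + k by
      rw [← Nat.mul_succ, Nat.succ_eq_add_one, Nat.sub_add_cancel (by omega), mul_comm],
      pow_add, hk1, one_mul]
  refine ⟨k, a ^ k, Or.inr (Or.inl rfl), ?_, rfl, hb, ?_⟩
  · rw [← pow_mul, mul_comm, pow_mul, h1, hb]
  · have hcab : c ^ k * (a ^ k * b ^ k) = 1 := by
      rw [← mul_pow, ← mul_pow, mul_comm c, habc, one_pow]
    apply mul_right_cancel₀ (mul_ne_zero (pow_ne_zero k ha) (pow_ne_zero k ha))
    rw [hb] at hcab
    rw [hcab, ← pow_add, ← pow_add, show k + (k + k) = k * 3 by ring]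
    rw [show k * (q + 2) = k * (q - 1) + k * 3 by rw [← mul_add]; congr 1; omega, pow_add, hk1,
      one_mul] at hk2
    exact hk2.symm

theorem good_cycle (hq : 2 ≤ q) {a b c : K} (ha : a ≠ 0) (h1 : a ^ q = b) (h2 : b ^ q = c)
    (h3 : c ^ q = a) (habc : a * b * c = 1) : Good p q a b c := by
  set d := Nat.gcd 3 (q - 1)
  set k := (q ^ 2 + q + 1) / d
  have hc : c = a ^ q ^ 2 := by rw [← h2, ← h1, sq, pow_mul]
  have hT : a ^ (q ^ 2 + q + 1) = 1 := by
    rw [pow_succ, pow_add, ← hc, h1]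
    linear_combination habc
  have hk1 : a ^ (k * (q - 1)) = 1 :=
    pow_one_of_dvd hT (dvd_div_mul (gcd_dvd_N q (by omega)) (Nat.gcd_dvd_right _ _))
  have hkq : ∀ x : K, x ^ (k * (q - 1)) = 1 → (x ^ q) ^ k = x ^ k := fun x hx => by
    rw [← pow_mul, show q * k = k * (q - 1) + k by
      rw [← Nat.mul_succ, Nat.succ_eq_add_one, Nat.sub_add_cancel (by omega), mul_comm],
      pow_add, hx, one_mul]
  have hb : b ^ k = a ^ k := by rw [← h1, hkq a hk1]
  have hbk : b ^ (k * (q - 1)) = 1 := by rw [← h1, ← pow_mul, mul_comm, pow_mul, hk1, one_pow]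
  have hck : c ^ k = a ^ k := by rw [← h2, hkq b hbk, hb]
  refine ⟨k, a ^ k, Or.inl rfl, ?_, rfl, hb, hck⟩
  rw [← pow_mul, mul_comm, pow_mul, h1, hb]

theorem roots_two (hp : 2 ≤ p) (hq : 2 ≤ q) (hinj : Injective fun a : K => a ^ q) {a b : K}
    (hab : a ≠ b) (ha : a ≠ 0) (hprod : a * a * b = 1)
    (hφ : (({a, a, b} : Multiset K).map fun x => x ^ q) = {a, a, b}) :
    ∃ k e lam, 0 < k ∧ Target p q (k * p ^ e) ∧ lam ^ q = lam ∧
      (∀ x ∈ ({a, a, b} : Multiset K), x ^ k = lam) ∧
      ∀ x, ({a, a, b} : Multiset K).count x ≤ p ^ e := by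
  have hmem : ∀ x ∈ ({a, a, b} : Multiset K), x ^ q = a ∨ x ^ q = b := fun x hx => by
    have : x ^ q ∈ ({a, a, b} : Multiset K) := hφ ▸ Multiset.mem_map_of_mem (fun x => x ^ q) hx
    simpa using this
  have hA : a ^ q = a := by
    rcases hmem a (by simp) with h | h
    · exact h
    · have hcnt := CfsgLib.ElemOrder.count_map_eq hinj hφ a
      simp only [h] at hcnt
      simp [hab, hab.symm] at hcnt
  have hB : b ^ q = b := by
    rcases hmem b (by simp) with h | h
    · exact absurd (hinj (h.trans hA.symm)) hab.symm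
    · exact h
  set d := Nat.gcd 3 (q - 1)
  have hd : d ∣ q - 1 := Nat.gcd_dvd_right _ _
  refine ⟨(q - 1) / d, 1, a ^ ((q - 1) / d), ?_, ?_, ?_, ?_, ?_⟩
  · exact Nat.div_pos (Nat.le_of_dvd (by omega) hd) (Nat.gcd_pos_of_pos_left _ (by omega))
  · rw [pow_one, mul_comm, ← Nat.mul_div_assoc _ hd]
    exact Or.inr (Or.inr (Or.inr (Or.inl rfl)))
  · rw [← pow_mul, mul_comm, pow_mul, hA]
  · intro x hx
    rcases (by simpa using hx : x = a ∨ x = b) with rfl | rfl
    · rfl
    · have h3 : a ^ ((q - 1) / d * 3) = 1 :=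
        pow_one_of_dvd (fix_pow (by omega) ha hA) (dvd_div_mul hd (Nat.gcd_dvd_left _ _))
      rw [eq_inv_of_mul_eq_one_right hprod, inv_pow]
      refine inv_eq_of_mul_eq_one_right ?_
      rw [← h3, pow_mul, mul_pow]
      ring
  · intro x
    rw [pow_one]
    refine le_trans ?_ hp
    rcases eq_or_ne x a with rfl | hx
    · simp [hab]
    · rcases eq_or_ne x b with rfl | hx2 <;> simp [hx, *]

/-- Exponents for three eigenvalues permuted by `a ↦ a^q` with product one. -/
theorem roots_three (hp : p.Prime) (hq : 2 ≤ q) (hinj : Injective fun a : K => a ^ q)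
    (R : Multiset K) (hcard : R.card = 3) (h0 : (0 : K) ∉ R) (hprod : R.prod = 1)
    (hφ : (R.map fun a => a ^ q) = R) :
    ∃ k e lam, 0 < k ∧ (∃ T, Target p q T ∧ k * p ^ e ∣ T) ∧ lam ^ q = lam ∧
      (∀ x ∈ R, x ^ k = lam) ∧ ∀ x, R.count x ≤ p ^ e := by
  obtain ⟨a, b, c, rfl⟩ := Multiset.card_eq_three.1 hcard
  have ha : a ≠ 0 := fun h => h0 (by simp [h])
  have hb : b ≠ 0 := fun h => h0 (by simp [h])
  have hc : c ≠ 0 := fun h => h0 (by simp [h])
  have habc : a * b * c = 1 := by simpa [mul_assoc] using hprod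
  have two : ∀ x y : K, x ≠ y → x ≠ 0 → x * x * y = 1 →
      ({a, b, c} : Multiset K) = {x, x, y} →
      ∃ k e lam, 0 < k ∧ (∃ T, Target p q T ∧ k * p ^ e ∣ T) ∧ lam ^ q = lam ∧
        (∀ z ∈ ({a, b, c} : Multiset K), z ^ k = lam) ∧
        ∀ z, ({a, b, c} : Multiset K).count z ≤ p ^ e := by
    intro x y hxy hx hxyp he
    rw [he] at hφ ⊢
    obtain ⟨k, e, lam, hk, hT, h⟩ := roots_two hp.two_le hq hinj hxy hx hxyp hφ
    exact ⟨k, e, lam, hk, ⟨_, hT, dvd_rfl⟩, h⟩
  by_cases hab : a = b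
  · subst hab
    by_cases hac : a = c
    · subst hac
      have hA : a ^ q = a := by
        have : a ^ q ∈ ({a, a, a} : Multiset K) :=
          hφ ▸ Multiset.mem_map_of_mem (fun x => x ^ q) (show a ∈ ({a, a, a} : Multiset K) by simp)
        simpa using this
      have hcnt : ∀ x, Multiset.count x ({a, a, a} : Multiset K) ≤ 3 := fun x => by
        simpa using Multiset.count_le_card x ({a, a, a} : Multiset K)
      by_cases hp2 : p = 2
      · subst hp2
        refine ⟨1, 2, a, one_pos, ⟨4, Or.inr (Or.inr (Or.inr (Or.inr ⟨rfl, rfl⟩))), by norm_num⟩,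
          hA, ?_, fun x => (hcnt x).trans (by norm_num)⟩
        intro x hx
        rw [pow_one]
        simpa using hx
      · refine ⟨1, 1, a, one_pos, ⟨_, Or.inr (Or.inr (Or.inr (Or.inl rfl))), ?_⟩, hA, ?_,
          fun x => (hcnt x).trans (by rw [pow_one]; have := hp.two_le; omega)⟩
        · rw [one_mul, pow_one, Nat.mul_div_assoc _ (Nat.gcd_dvd_right _ _)]
          exact Dvd.intro _ rfl
        · intro x hx
          rw [pow_one]
          simpa using hx
    · exact two a c hac ha habc rfl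
  by_cases hac : a = c
  · subst hac
    exact two a b hab ha (by linear_combination habc) (congrArg (a ::ₘ ·) (Multiset.pair_comm b a))
  by_cases hbc : b = c
  · subst hbc
    exact two b a (Ne.symm hab) hb (by linear_combination habc) (by
      simp only [Multiset.insert_eq_cons]
      rw [Multiset.cons_swap a b, ← Multiset.singleton_add b, ← Multiset.singleton_add b]
      congr 1; exact Multiset.cons_swap a b 0)
  have hmem : ∀ x ∈ ({a, b, c} : Multiset K), x ^ q = a ∨ x ^ q = b ∨ x ^ q = c := fun x hx => by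
    have : x ^ q ∈ ({a, b, c} : Multiset K) := hφ ▸ Multiset.mem_map_of_mem (fun x => x ^ q) hx
    simpa using this
  obtain ⟨k, lam, hk, hlam, hka, hkb, hkc⟩ : Good p q a b c := by
    rcases hmem a (by simp) with hA | hA | hA <;> rcases hmem b (by simp) with hB | hB | hB <;>
      rcases hmem c (by simp) with hC | hC | hC
    all_goals first
      | exact absurd (hinj (hA.trans hB.symm)) hab
      | exact absurd (hinj (hA.trans hC.symm)) hac
      | exact absurd (hinj (hB.trans hC.symm)) hbc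
      | exact good_fix hq ha hb hc hA hB hC
      | exact good_swap hq ha hA hB habc
      | exact (good_swap hq hb hB hC (by linear_combination habc)).rot.rot
      | exact (good_swap hq hc hC hA (by linear_combination habc)).rot
      | exact good_cycle hq ha hA hB hC habc
      | exact ((good_cycle hq hb hB hA hC (by linear_combination habc))).swap
  have hkpos : 0 < k := by
    have hd : 0 < Nat.gcd 3 (q - 1) := Nat.gcd_pos_of_pos_left _ (by omega)
    rcases hk with rfl | rfl | rfl | rfl | ⟨-, rfl⟩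
    · exact Nat.div_pos (Nat.le_of_dvd (by omega) (gcd_dvd_N q (by omega))) hd
    · have : 4 ≤ q ^ 2 := Nat.pow_le_pow_left hq 2
      exact Nat.div_pos (Nat.le_of_dvd (by omega) (gcd_dvd_sq q)) hd
    · omega
    · exact Nat.div_pos ((Nat.le_of_dvd (by omega) (Nat.gcd_dvd_right _ _)).trans
        (Nat.le_mul_of_pos_left _ hp.pos)) hd
    · norm_num
  refine ⟨k, 0, lam, hkpos, ⟨k, hk, by simp⟩, hlam, ?_, ?_⟩
  · intro x hx
    rcases (by simpa using hx : x = a ∨ x = b ∨ x = c) with rfl | rfl | rfl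
    exacts [hka, hkb, hkc]
  · intro x
    rw [pow_zero]
    refine Multiset.nodup_iff_count_le_one.1 ?_ x
    simp [hab, hac, hbc]

end Roots

/-! ### The group -/

variable {F : Type*} [Field F] [Fintype F]

theorem proj_eq_one_iff (g : Matrix.SpecialLinearGroup (Fin 3) F) :
    (g : Matrix.SpecialLinearGroup (Fin 3) F ⧸ Subgroup.center _) = 1 ↔
      ∃ c : F, (g : Matrix (Fin 3) (Fin 3) F) = c • 1 := by
  rw [QuotientGroup.eq_one_iff, Matrix.SpecialLinearGroup.mem_center_iff]
  constructor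
  · rintro ⟨r, -, hr⟩
    exact ⟨r, by rw [← hr, Matrix.scalar_apply, Matrix.smul_one_eq_diagonal]⟩
  · rintro ⟨r, hr⟩
    refine ⟨r, ?_, ?_⟩
    · have h := g.2
      rw [hr, Matrix.det_smul, Matrix.det_one, mul_one] at h
      exact h
    · rw [hr, Matrix.scalar_apply, Matrix.smul_one_eq_diagonal]

theorem upper (p : ℕ) [hp : Fact p.Prime] [CharP F p]
    (x : Matrix.ProjectiveSpecialLinearGroup (Fin 3) F) :
    ∃ T, Target p (Fintype.card F) T ∧ orderOf x ∣ T := by
  classical
  obtain ⟨g, rfl⟩ := QuotientGroup.mk'_surjective _ x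
  obtain ⟨n, -, hn⟩ := FiniteField.card F p
  set q := Fintype.card F with hq
  set M := (g : Matrix (Fin 3) (Fin 3) F) with hM
  have hM0 : M.det ≠ 0 := by rw [g.2]; exact one_ne_zero
  have hq2 : 2 ≤ q := Fintype.one_lt_card
  have hinj : Injective fun a : AlgebraicClosure F => a ^ q := by
    rw [hn]
    exact CfsgLib.ElemOrder.pow_injective_closure p n
  obtain ⟨k, e, lam, hk, ⟨T, hT, hdvd⟩, hlam, hroot, hcount⟩ := roots_three hp.out hq2 hinj
    (CfsgLib.ElemOrder.croots M) (by rw [CfsgLib.ElemOrder.croots_card, Fintype.card_fin])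
    (CfsgLib.ElemOrder.zero_notMem_croots hM0)
    (by rw [CfsgLib.ElemOrder.croots_prod, g.2, map_one]) (by
      rw [hn, CfsgLib.ElemOrder.croots_pow p n M (RingHom.id F)
        (CfsgLib.ElemOrder.id_frob (by rw [← hq, hn]))]
      rfl)
  obtain ⟨r, hr⟩ := CfsgLib.ElemOrder.exists_algebraMap_of_pow_card lam hlam
  have hpow := CfsgLib.ElemOrder.pow_eq_scalar p M hk r (fun a ha => by rw [hroot a ha, hr]) hcount
  refine ⟨T, hT, (orderOf_dvd_of_pow_eq_one ?_).trans hdvd⟩
  rw [← map_pow]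
  exact (proj_eq_one_iff _).2 ⟨r ^ p ^ e, by
    rw [Matrix.SpecialLinearGroup.coe_pow, ← hM, hpow, Matrix.scalar_apply,
      Matrix.smul_one_eq_diagonal]⟩

theorem lower (p : ℕ) [hp : Fact p.Prime] [CharP F p] {T : ℕ}
    (hT : Target p (Fintype.card F) T) :
    ∃ x : Matrix.ProjectiveSpecialLinearGroup (Fin 3) F, T ∣ orderOf x := by
  classical
  set q := Fintype.card F with hq
  have hq2 : 2 ≤ q := Fintype.one_lt_card
  set d := Nat.gcd 3 (q - 1) with hd
  have hd0 : 0 < d := Nat.gcd_pos_of_pos_left _ (by omega)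
  have key : ∀ A : Matrix (Fin 3) (Fin 3) F, A.det = 1 →
      (∀ k, (∃ c : F, A ^ k = c • 1) → T ∣ k) →
      ∃ x : Matrix.ProjectiveSpecialLinearGroup (Fin 3) F, T ∣ orderOf x := by
    intro A hdet h
    let g : Matrix.SpecialLinearGroup (Fin 3) F := ⟨A, hdet⟩
    refine ⟨QuotientGroup.mk' _ g, h _ ?_⟩
    have h1 := pow_orderOf_eq_one (QuotientGroup.mk' (Subgroup.center
      (Matrix.SpecialLinearGroup (Fin 3) F)) g)
    rw [← map_pow] at h1
    obtain ⟨c, hc⟩ := (proj_eq_one_iff _).1 h1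
    exact ⟨c, by rw [← hc, Matrix.SpecialLinearGroup.coe_pow]⟩
  obtain ⟨u', hu'⟩ := IsCyclic.exists_generator (α := Fˣ)
  set z : F := (u' : F)
  have hzo : orderOf z = q - 1 := by
    rw [orderOf_units, orderOf_eq_card_of_forall_mem_zpowers hu', Nat.card_units,
      Nat.card_eq_fintype_card]
  have hz0 : z ≠ 0 := u'.ne_zero
  rcases hT with rfl | rfl | rfl | rfl | ⟨rfl, rfl⟩
  · -- the cubic torus
    let L := FiniteField.Extension F p 3
    have hfr : Module.finrank F L = 3 := FiniteField.finrank_extension F p 3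
    have hcL : Nat.card L = q ^ 3 := by
      rw [FiniteField.natCard_extension F p 3, Nat.card_eq_fintype_card]
    have : Fintype L := Fintype.ofFinite L
    let Φ := Algebra.leftMulMatrix (Module.finBasisOfFinrankEq F L hfr)
    have hΦ : Injective Φ := Algebra.leftMulMatrix_injective _
    obtain ⟨v', hv'⟩ := IsCyclic.exists_generator (α := Lˣ)
    set v : L := (v' : L)
    have hvo : orderOf v = q ^ 3 - 1 := by
      rw [orderOf_units, orderOf_eq_card_of_forall_mem_zpowers hv', Nat.card_units, hcL]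
    set N := q ^ 2 + q + 1
    have hmN : (q - 1) * N = q ^ 3 - 1 := by
      obtain ⟨j, hj⟩ : ∃ j, q = j + 1 := ⟨q - 1, by omega⟩
      show (q - 1) * (q ^ 2 + q + 1) = _
      rw [hj, Nat.add_sub_cancel]
      refine Nat.eq_sub_of_add_eq ?_
      ring
    set w := v ^ (q - 1) with hw
    have hwo : orderOf w = N := by
      rw [hw, orderOf_pow_of_dvd (by omega) (hvo ▸ Dvd.intro _ hmN), hvo, ← hmN,
        Nat.mul_div_cancel_left _ (by omega)]
    refine key (Φ w) ?_ ?_
    · have hv0 : (Φ v).det ≠ 0 := by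
        intro h
        have := congrArg Matrix.det (show Φ v * Φ v⁻¹ = 1 by
          rw [← map_mul, mul_inv_cancel₀ v'.ne_zero, map_one])
        rw [Matrix.det_mul, h, zero_mul, Matrix.det_one] at this
        exact zero_ne_one this
      rw [hw, map_pow, Matrix.det_pow]
      exact FiniteField.pow_card_sub_one_eq_one _ hv0
    · rintro k ⟨a, ha⟩
      have hwk : w ^ k = algebraMap F L a := hΦ (by
        rw [map_pow, ha, AlgHom.commutes, Algebra.algebraMap_eq_smul_one])
      have hd1 : N ∣ k * (q - 1) := by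
        rw [← hwo]
        apply orderOf_dvd_of_pow_eq_one
        have ha0 : a ≠ 0 := fun h => pow_ne_zero k (pow_ne_zero _ v'.ne_zero : w ≠ 0)
          (by rw [hwk, h, map_zero])
        rw [pow_mul, hwk, ← map_pow, FiniteField.pow_card_sub_one_eq_one _ ha0, map_one]
      have hd2 : N ∣ k * Nat.gcd (q - 1) N := by
        rw [← Nat.gcd_mul_left]
        exact Nat.dvd_gcd hd1 (Dvd.intro_left _ rfl)
      exact div_dvd_of (gcd_dvd_N q (by omega)) hd0
        (hd2.trans ((Nat.mul_dvd_mul_left k (gcd_sub_N_dvd q (by omega))).trans (by rw [mul_comm])))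
  · -- the quadratic torus
    let L := FiniteField.Extension F p 2
    have hfr : Module.finrank F L = 2 := FiniteField.finrank_extension F p 2
    have hcL : Nat.card L = q ^ 2 := by
      rw [FiniteField.natCard_extension F p 2, Nat.card_eq_fintype_card]
    have : Fintype L := Fintype.ofFinite L
    let Φ := Algebra.leftMulMatrix (Module.finBasisOfFinrankEq F L hfr)
    have hΦ : Injective Φ := Algebra.leftMulMatrix_injective _
    obtain ⟨v', hv'⟩ := IsCyclic.exists_generator (α := Lˣ)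
    set v : L := (v' : L)
    have hvo : orderOf v = q ^ 2 - 1 := by
      rw [orderOf_units, orderOf_eq_card_of_forall_mem_zpowers hv', Nat.card_units, hcL]
    let emb : Matrix (Fin 2) (Fin 2) F → F → Matrix (Fin 3) (Fin 3) F := fun A r =>
      !![A 0 0, A 0 1, 0; A 1 0, A 1 1, 0; 0, 0, r]
    have hemb : ∀ A B r s, emb A r * emb B s = emb (A * B) (r * s) := fun A B r s => by
      ext i j
      fin_cases i <;> fin_cases j <;>
        simp [emb, Matrix.mul_apply, Fin.sum_univ_three, Fin.sum_univ_two]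
    have hemb1 : emb 1 1 = 1 := by
      ext i j
      fin_cases i <;> fin_cases j <;> simp [emb]
    have hpow : ∀ A r (k : ℕ), emb A r ^ k = emb (A ^ k) (r ^ k) := fun A r k => by
      induction k with
      | zero => rw [pow_zero, pow_zero, pow_zero, hemb1]
      | succ k ih => rw [pow_succ, ih, hemb, ← pow_succ, ← pow_succ]
    have hδ : (Φ v).det ≠ 0 := by
      intro h
      have := congrArg Matrix.det (show Φ v * Φ v⁻¹ = 1 by
        rw [← map_mul, mul_inv_cancel₀ v'.ne_zero, map_one])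
      rw [Matrix.det_mul, h, zero_mul, Matrix.det_one] at this
      exact zero_ne_one this
    refine key (emb (Φ v) ((Φ v).det)⁻¹) ?_ ?_
    · rw [Matrix.det_fin_three]
      simp [emb]
      have h2 := Matrix.det_fin_two (Φ v)
      linear_combination (mul_inv_cancel₀ hδ) - (Φ v).det⁻¹ * h2
    · rintro k ⟨a, ha⟩
      rw [hpow, ← map_pow] at ha
      have h00 := congrFun (congrFun ha 0) 0
      have h01 := congrFun (congrFun ha 0) 1
      have h10 := congrFun (congrFun ha 1) 0
      have h11 := congrFun (congrFun ha 1) 1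
      have h22 := congrFun (congrFun ha 2) 2
      simp [emb] at h00 h01 h10 h11 h22
      have hvk : Φ (v ^ k) = a • 1 := by
        ext i j
        fin_cases i <;> fin_cases j <;> simp [map_pow, h00, h01, h10, h11]
      have hδa : (Φ v).det ^ k = a ^ 2 := by
        rw [← Matrix.det_pow, ← map_pow, hvk, Matrix.det_smul, Matrix.det_one, mul_one,
          Fintype.card_fin]
      have ha3 : a ^ 3 = 1 := by
        rw [pow_succ, ← hδa, ← h22, mul_inv_cancel₀ (pow_ne_zero _ hδ)]
      have hva : v ^ k = algebraMap F L a := hΦ (by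
        rw [hvk, AlgHom.commutes, Algebra.algebraMap_eq_smul_one])
      have h1 : q ^ 2 - 1 ∣ 3 * k := by
        rw [← hvo]
        apply orderOf_dvd_of_pow_eq_one
        rw [mul_comm, pow_mul, hva, ← map_pow, ha3, map_one]
      have h2 : q ^ 2 - 1 ∣ (q - 1) * k := by
        rw [← hvo]
        apply orderOf_dvd_of_pow_eq_one
        rw [mul_comm, pow_mul, hva, ← map_pow, FiniteField.pow_card_sub_one_eq_one, map_one]
        rintro rfl
        simp at ha3
      refine div_dvd_of (gcd_dvd_sq q) hd0 ?_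
      rw [← Nat.gcd_mul_right]
      exact Nat.dvd_gcd h1 h2
  · -- the split torus
    refine key (Matrix.diagonal ![z, z⁻¹, 1]) ?_ ?_
    · simp [Matrix.det_diagonal, Fin.prod_univ_three, hz0]
    · rintro k ⟨a, ha⟩
      rw [Matrix.diagonal_pow] at ha
      have h0 := congrFun (congrFun ha 0) 0
      have h3 := congrFun (congrFun ha 2) 2
      simp at h0 h3
      rw [← hzo]
      exact orderOf_dvd_of_pow_eq_one (h0.trans h3.symm)
  · -- torus times unipotent
    let B : F → F → Matrix (Fin 3) (Fin 3) F := fun x t =>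
      !![x, x * t, 0; 0, x, 0; 0, 0, (x ^ 2)⁻¹]
    have hB : ∀ k : ℕ, B z 1 ^ k = B (z ^ k) k := fun k => by
      induction k with
      | zero => simp [B, Matrix.one_fin_three]
      | succ k ih =>
        rw [pow_succ, ih]
        ext i j
        fin_cases i <;> fin_cases j <;>
          simp [B, Matrix.mul_apply, Fin.sum_univ_three, pow_succ, mul_inv]
        all_goals ring
    refine key (B z 1) ?_ ?_
    · rw [Matrix.det_fin_three]
      simp [B]
      field_simp
    · rintro k ⟨a, ha⟩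
      rw [hB] at ha
      have h0 := congrFun (congrFun ha 0) 0
      have h1 := congrFun (congrFun ha 0) 1
      have h3 := congrFun (congrFun ha 2) 2
      simp [B] at h0 h1 h3
      have hpk : p ∣ k := (CharP.cast_eq_zero_iff F p k).1 (by simpa [hz0] using h1)
      have h3k : q - 1 ∣ 3 * k := by
        rw [← hzo]
        apply orderOf_dvd_of_pow_eq_one
        have h4 : (z ^ k) ^ 2 * z ^ k = 1 := by
          nth_rw 2 [h0.trans h3.symm]
          exact mul_inv_cancel₀ (pow_ne_zero _ (pow_ne_zero _ hz0))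
        linear_combination h4
      have hdk : (q - 1) / d ∣ k := by
        refine div_dvd_of (Nat.gcd_dvd_right _ _) hd0 ?_
        rw [hd, ← Nat.gcd_mul_right]
        exact Nat.dvd_gcd h3k (Dvd.intro _ rfl)
      rw [Nat.mul_div_assoc _ (Nat.gcd_dvd_right 3 (q - 1))]
      refine Nat.Coprime.mul_dvd_of_dvd_of_dvd ?_ hpk hdk
      refine (Nat.Coprime.coprime_dvd_right (Nat.div_dvd_of_dvd (Nat.gcd_dvd_right 3 (q - 1))) ?_)
      rw [Nat.Prime.coprime_iff_not_dvd hp.out]
      intro h
      obtain ⟨n, hn0, hn⟩ := FiniteField.card F p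
      have : p ∣ q := hq ▸ hn ▸ dvd_pow_self p n.ne_zero
      have := Nat.dvd_sub this h
      rw [show q - (q - 1) = 1 by omega] at this
      exact hp.out.not_dvd_one this
  · -- a regular unipotent element in characteristic two
    let U : Matrix (Fin 3) (Fin 3) F := !![1, 1, 0; 0, 1, 1; 0, 0, 1]
    refine key U ?_ ?_
    · rw [Matrix.det_fin_three]; simp [U]
    · rintro k ⟨a, ha⟩
      have h2 : (1 : F) + 1 = 0 := by
        rw [one_add_one_eq_two]
        exact CharTwo.two_eq_zero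
      have hU4 : U ^ 4 = 1 := by
        rw [show (4 : ℕ) = 2 * 2 from rfl, pow_mul, sq, sq]
        ext i j
        fin_cases i <;> fin_cases j <;> simp [U, Matrix.mul_apply, Fin.sum_univ_three, h2]
      rw [← Nat.mod_add_div k 4, pow_add, pow_mul, hU4, one_pow, mul_one] at ha
      refine Nat.dvd_of_mod_eq_zero ?_
      have := Nat.mod_lt k (show 4 > 0 by norm_num)
      have h01 := congrFun (congrFun ha 0) 1
      have h02 := congrFun (congrFun ha 0) 2
      interval_cases h : k % 4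
      · rfl
      · simp [U] at h01
      · simp [U, sq, Matrix.mul_apply, Fin.sum_univ_three] at h02
      · simp [U, pow_succ, Matrix.mul_apply, Fin.sum_univ_three, h2] at h01

theorem range_orderOf (p : ℕ) [hp : Fact p.Prime] [CharP F p] :
    Set.range (orderOf : Matrix.ProjectiveSpecialLinearGroup (Fin 3) F → ℕ) =
      {t : ℕ | ∃ T, Target p (Fintype.card F) T ∧ t ∣ T} := by
  classical
  ext t
  constructor
  · rintro ⟨x, rfl⟩
    exact upper p x
  · rintro ⟨T, hT, htT⟩
    obtain ⟨x, hx⟩ := lower p hT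
    exact CfsgLib.FormRep.exists_order_of_dvd x (orderOf_pos x) (htT.trans hx)

end CfsgLib.Spectrum.LinearThree
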