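import Mathlib

/-!
Minimal Frobenius groups `F_{p^k} ⋊ C_q`, with `k` the order of `p` modulo `q`.
-/

set_option autoImplicit false
set_option linter.style.haveILetI false

namespace CfsgLib.MinimalFrobenius

/-- A finite group with a minimal normal subgroup `V` of order `p ^ k` and prime index `q`, whose
element orders are `1`, `p` and `q`. -/
structure Data (p q : ℕ) : Type 1 where
  G : Type
  [grp : Group G]
  [fin : Finite G]
  k : ℕ
  k_pos : 1 ≤ k
  k_one : k = 1 → q ∣ p - 1
  V : Subgroup G
  card_eq : Nat.card G = p ^ k * q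
  card_V : Nat.card V = p ^ k
  range_eq : ∀ m, (∃ g : G, orderOf g = m) ↔ m = 1 ∨ m = p ∨ m = q
  mem_V : ∀ g : G, orderOf g = p → g ∈ V
  notMem_V : ∀ g : G, orderOf g = q → g ∉ V
  normal_le : ∀ N : Subgroup G, N.Normal → N ≠ ⊥ → V ≤ N
  generated : ∀ H : Subgroup G, ∀ v ∈ H, v ∈ V → v ≠ 1 → ∀ a ∈ H, a ∉ V → H = ⊤

attribute [instance] Data.grp Data.fin

theorem exists_data {p q : ℕ} (hp : p.Prime) (hq : q.Prime) (hpq : p ≠ q) :
    Nonempty (Data p q) := by
  classical
  haveI := Fact.mk hp
  haveI := Fact.mk hq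
  have hcop : p.Coprime q := (Nat.coprime_primes hp hq).mpr hpq
  set k := orderOf (p : ZMod q) with hk
  have hpne : (p : ZMod q) ≠ 0 := fun h =>
    hpq ((Nat.prime_dvd_prime_iff_eq hq hp).mp ((CharP.cast_eq_zero_iff (ZMod q) q p).mp h)).symm
  have hk0 : 0 < k := by
    refine orderOf_pos_iff.mpr (isOfFinOrder_iff_pow_eq_one.mpr ⟨q - 1, ?_, ?_⟩)
    · have := hq.two_le; omega
    · exact ZMod.pow_card_sub_one_eq_one hpne
  have hdvd : ∀ m, q ∣ p ^ m - 1 ↔ k ∣ m := fun m => by
    rw [hk, orderOf_dvd_iff_pow_eq_one, ← Nat.modEq_iff_dvd' (Nat.one_le_pow _ _ hp.pos),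
      ← ZMod.natCast_eq_natCast_iff, Nat.cast_pow, Nat.cast_one, eq_comm]
  set F := GaloisField p k
  have hF : Nat.card F = p ^ k := GaloisField.card p k hk0.ne'
  haveI : Finite F := Nat.finite_of_card_ne_zero (by rw [hF]; exact (pow_pos hp.pos k).ne')
  haveI : Fintype F := Fintype.ofFinite F
  obtain ⟨ζ, hζ⟩ : ∃ ζ : Fˣ, orderOf ζ = q := by
    refine exists_prime_orderOf_dvd_card' q ?_
    rw [Nat.card_units, hF]
    exact (hdvd k).mpr dvd_rfl
  set C := Subgroup.zpowers ζ with hC
  have hCcard : Nat.card C = q := by rw [hC, Nat.card_zpowers, hζ]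
  let φ : C →* MulAut (Multiplicative F) :=
    { toFun := fun c => AddEquiv.toMultiplicative
        { toFun := fun x => ((c : Fˣ) : F) * x
          invFun := fun x => (((c : Fˣ)⁻¹ : Fˣ) : F) * x
          left_inv := fun x => Units.inv_mul_cancel_left _ x
          right_inv := fun x => Units.mul_inv_cancel_left _ x
          map_add' := fun x y => mul_add _ x y }
      map_one' := by
        refine MulEquiv.ext fun x => ?_
        show Multiplicative.ofAdd ((((1 : C) : Fˣ) : F) * x.toAdd) = x
        simp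
      map_mul' := fun c d => by
        refine MulEquiv.ext fun x => ?_
        show Multiplicative.ofAdd ((((c * d : C) : Fˣ) : F) * x.toAdd) =
          Multiplicative.ofAdd (((c : Fˣ) : F) * (((d : Fˣ) : F) * x.toAdd))
        simp [mul_assoc] }
  have hφ : ∀ (c : C) (x : F), (φ c (Multiplicative.ofAdd x)).toAdd = ((c : Fˣ) : F) * x :=
    fun _ _ => rfl
  let V : Subgroup (Multiplicative F ⋊[φ] C) := SemidirectProduct.inl.range
  have hVmem : ∀ g, g ∈ V ↔ g.right = 1 := fun g => by
    constructor
    · rintro ⟨x, rfl⟩; rfl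
    · exact fun h => ⟨g.left, SemidirectProduct.ext rfl h.symm⟩
  have hcard : Nat.card (Multiplicative F ⋊[φ] C) = p ^ k * q := by
    rw [SemidirectProduct.card, hCcard]
    exact congrArg (· * q) hF
  haveI : Finite (Multiplicative F ⋊[φ] C) :=
    Nat.finite_of_card_ne_zero (by rw [hcard]; exact Nat.mul_ne_zero (pow_pos hp.pos k).ne' hq.ne_zero)
  have hpowV : ∀ g, g ∈ V → g ^ p = 1 := by
    rintro _ ⟨x, rfl⟩
    rw [← map_pow, show x ^ p = 1 from Multiplicative.toAdd.injective (by
      rw [toAdd_pow, nsmul_eq_mul, CharP.cast_eq_zero, zero_mul, toAdd_one]), map_one]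
  have hpow : ∀ g : Multiplicative F ⋊[φ] C, g.right ≠ 1 → g ^ q = 1 := by
    intro g hg
    have hstep : ∀ n : ℕ, (g ^ n).right = g.right ^ n ∧ (g ^ n).left.toAdd =
        (∑ i ∈ Finset.range n, (((g.right : C) : Fˣ) : F) ^ i) * g.left.toAdd := by
      intro n
      induction n with
      | zero => simp
      | succ n ih =>
        rw [pow_succ]
        refine ⟨by rw [SemidirectProduct.mul_right, ih.1, pow_succ], ?_⟩
        rw [SemidirectProduct.mul_left, toAdd_mul, ih.2, ih.1,
          show (φ (g.right ^ n) g.left).toAdd = (((g.right ^ n : C) : Fˣ) : F) * g.left.toAdd from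
            hφ _ _, Finset.sum_range_succ, add_mul, SubgroupClass.coe_pow, Units.val_pow_eq_pow_val]
    have hq1 : g.right ^ q = 1 := by
      have := pow_card_eq_one' (x := g.right)
      rwa [hCcard] at this
    refine SemidirectProduct.ext (Multiplicative.toAdd.injective ?_) ?_
    · have hne : (((g.right : C) : Fˣ) : F) ≠ 1 := fun h =>
        hg (Subtype.ext (Units.ext h))
      have hq2 : (((g.right : C) : Fˣ) : F) ^ q = 1 := by
        rw [← Units.val_pow_eq_pow_val, ← SubgroupClass.coe_pow, hq1]; rfl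
      rw [(hstep q).2, geom_sum_eq hne, hq2]
      simp
    · rw [(hstep q).1, hq1]; rfl
  have hirr : ∀ W : AddSubgroup F, W ≠ ⊥ → (∀ x ∈ W, ((ζ : Fˣ) : F) * x ∈ W) →
      ∀ x, x ∈ W := by
    intro W hW hWζ
    let R : Subring F :=
      { carrier := {r | ∀ x ∈ W, r * x ∈ W}
        one_mem' := fun x hx => by simpa using hx
        mul_mem' := fun {r s} hr hs x hx => by rw [mul_assoc]; exact hr _ (hs x hx)
        zero_mem' := fun x _ => by simp
        add_mem' := fun {r s} hr hs x hx => by rw [add_mul]; exact add_mem (hr x hx) (hs x hx)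
        neg_mem' := fun {r} hr x hx => by rw [neg_mul]; exact neg_mem (hr x hx) }
    obtain ⟨m, hmk, hm⟩ := (Nat.dvd_prime_pow hp).mp
      (hF ▸ AddSubgroup.card_addSubgroup_dvd_card R.toAddSubgroup)
    have hR : Nat.card R = p ^ m := hm
    let U : Subgroup Fˣ :=
      { carrier := {u | (u : F) ∈ R}
        one_mem' := by simp
        mul_mem' := fun {a b} ha hb => by simpa using R.mul_mem ha hb
        inv_mem' := fun {a} ha => by
          have h1 : a⁻¹ = a ^ (orderOf a - 1) := by
            refine inv_eq_of_mul_eq_one_right ?_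
            rw [← pow_succ', Nat.sub_add_cancel (orderOf_pos a), pow_orderOf_eq_one]
          show ((a⁻¹ : Fˣ) : F) ∈ R
          rw [h1, Units.val_pow_eq_pow_val]
          exact R.pow_mem ha _ }
    let e : U ≃ {r : R // r ≠ 0} :=
      { toFun := fun u => ⟨⟨((u : Fˣ) : F), u.2⟩, fun h => (u : Fˣ).ne_zero (congrArg Subtype.val h)⟩
        invFun := fun r => ⟨Units.mk0 ((r.1 : R) : F) (fun h => r.2 (Subtype.ext h)), r.1.2⟩
        left_inv := fun u => Subtype.ext (Units.ext rfl)
        right_inv := fun r => Subtype.ext (Subtype.ext rfl) }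
    have hU : Nat.card U = p ^ m - 1 := by
      haveI : Fintype R := Fintype.ofFinite R
      rw [Nat.card_congr e, Nat.card_eq_fintype_card, Fintype.card_subtype_compl,
        Fintype.card_subtype_eq, ← Nat.card_eq_fintype_card, hR]
    have hqm : q ∣ p ^ m - 1 := by
      rw [← hU, ← hζ]
      exact U.orderOf_dvd_natCard hWζ
    have hm0 : m ≠ 0 := by
      rintro rfl
      have h2 : Nat.card R ≤ 1 := by rw [hR, pow_zero]
      have : Nontrivial R := ⟨⟨0, 1, fun h => zero_ne_one (congrArg Subtype.val h)⟩⟩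
      exact absurd h2 (not_le.mpr Finite.one_lt_card)
    have hmk' : m = k := le_antisymm hmk (Nat.le_of_dvd (Nat.pos_of_ne_zero hm0) ((hdvd m).mp hqm))
    have hRtop : R.toAddSubgroup = ⊤ :=
      AddSubgroup.eq_top_of_card_eq _ (hR.trans (by rw [hF, hmk']))
    obtain ⟨w, hw, hw0⟩ := (AddSubgroup.bot_or_exists_ne_zero W).resolve_left hW
    intro x
    have hx : x * w⁻¹ ∈ R.toAddSubgroup := hRtop ▸ AddSubgroup.mem_top _
    have := hx w hw
    rwa [inv_mul_cancel_right₀ hw0] at this
  have hgen : ∀ H : Subgroup (Multiplicative F ⋊[φ] C), ∀ v ∈ H, v ∈ V → v ≠ 1 →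
      ∀ a ∈ H, a ∉ V → H = ⊤ := by
    intro H v hvH hvV hv1 a haH haV
    rw [hVmem] at haV
    let W : AddSubgroup F :=
      { carrier := {x | SemidirectProduct.inl (Multiplicative.ofAdd x) ∈ H}
        zero_mem' := by simp
        add_mem' := fun {x y} hx hy => by
          show SemidirectProduct.inl (Multiplicative.ofAdd (x + y)) ∈ H
          rw [ofAdd_add, map_mul]
          exact H.mul_mem hx hy
        neg_mem' := fun {x} hx => by
          show SemidirectProduct.inl (Multiplicative.ofAdd (-x)) ∈ H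
          rw [ofAdd_neg, map_inv]
          exact H.inv_mem hx }
    have hC' : Subgroup.zpowers a.right = ⊤ := by
      haveI : Fact (Nat.card C).Prime := ⟨hCcard.symm ▸ hq⟩
      exact (Subgroup.eq_bot_or_eq_top_of_prime_card _).resolve_left
        (fun h => haV (Subgroup.zpowers_eq_bot.mp h))
    have hconj : ∀ (b : Multiplicative F ⋊[φ] C) (x : F),
        b * SemidirectProduct.inl (Multiplicative.ofAdd x) * b⁻¹ =
          SemidirectProduct.inl (Multiplicative.ofAdd (((b.right : Fˣ) : F) * x)) := by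
      intro b x
      refine SemidirectProduct.ext ?_ (by simp)
      simp only [SemidirectProduct.mul_left, SemidirectProduct.mul_right,
        SemidirectProduct.inv_left, SemidirectProduct.left_inl, SemidirectProduct.right_inl,
        mul_one]
      rw [← MulAut.mul_apply, ← map_mul, mul_inv_cancel, map_one, MulAut.one_apply,
        mul_comm b.left, mul_inv_cancel_right]
      exact Multiplicative.toAdd.injective (hφ _ _)
    obtain ⟨n, hn⟩ := Subgroup.mem_zpowers_iff.mp
      (hC' ▸ Subgroup.mem_top (⟨ζ, Subgroup.mem_zpowers ζ⟩ : C))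
    have hW : ∀ x, x ∈ W := by
      refine hirr W ?_ ?_
      · intro h
        obtain ⟨x, rfl⟩ := hvV
        have hx : x.toAdd ∈ W := hvH
        rw [h, AddSubgroup.mem_bot] at hx
        exact hv1 (by rw [show x = 1 from hx, map_one])
      · intro x hx
        have h1 : (a ^ n) * SemidirectProduct.inl (Multiplicative.ofAdd x) * (a ^ n)⁻¹ ∈ H :=
          H.mul_mem (H.mul_mem (H.zpow_mem haH n) hx) (H.inv_mem (H.zpow_mem haH n))
        rw [hconj, show (a ^ n).right = a.right ^ n from map_zpow SemidirectProduct.rightHom a n,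
          hn] at h1
        exact h1
    rw [eq_top_iff]
    intro g _
    obtain ⟨n, hn⟩ := Subgroup.mem_zpowers_iff.mp (hC' ▸ Subgroup.mem_top g.right)
    have h1 : g * (a ^ n)⁻¹ ∈ V := by
      rw [hVmem]
      show SemidirectProduct.rightHom (g * (a ^ n)⁻¹) = 1
      rw [map_mul, map_inv, map_zpow]
      show g.right * (a.right ^ n)⁻¹ = 1
      rw [hn, mul_inv_cancel]
    obtain ⟨x, hx⟩ := h1
    have hxH : SemidirectProduct.inl x ∈ H := hW x.toAdd
    rw [hx] at hxH
    simpa using H.mul_mem hxH (H.zpow_mem haH n)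
  refine ⟨{ G := Multiplicative F ⋊[φ] C, k := k, k_pos := hk0, V := V, card_eq := hcard,
            card_V := ?_, k_one := ?_, range_eq := ?_, mem_V := ?_, notMem_V := ?_,
            normal_le := ?_, generated := hgen }⟩
  · intro h
    simpa using (hdvd 1).mpr (h ▸ dvd_rfl)
  · rw [Nat.card_congr (MonoidHom.ofInjective SemidirectProduct.inl_injective).toEquiv.symm]
    exact hF
  · intro m
    constructor
    · rintro ⟨g, rfl⟩
      by_cases hg : g.right = 1
      · rcases (Nat.dvd_prime hp).mp (orderOf_dvd_of_pow_eq_one (hpowV g ((hVmem g).mpr hg)))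
          with h | h
        · exact Or.inl h
        · exact Or.inr (Or.inl h)
      · rcases (Nat.dvd_prime hq).mp (orderOf_dvd_of_pow_eq_one (hpow g hg)) with h | h
        · exact Or.inl h
        · exact Or.inr (Or.inr h)
    · rintro (rfl | h | h)
      · exact ⟨1, orderOf_one⟩
      · obtain ⟨g, hg⟩ := exists_prime_orderOf_dvd_card' (G := Multiplicative F ⋊[φ] C) p
          (by rw [hcard]; exact dvd_mul_of_dvd_left (dvd_pow_self p hk0.ne') q)
        exact ⟨g, h ▸ hg⟩
      · obtain ⟨g, hg⟩ := exists_prime_orderOf_dvd_card' (G := Multiplicative F ⋊[φ] C) q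
          (by rw [hcard]; exact dvd_mul_left q _)
        exact ⟨g, h ▸ hg⟩
  · intro g hg
    rw [hVmem]
    by_contra h
    have := orderOf_dvd_of_pow_eq_one (hpow g h)
    rw [hg] at this
    exact hpq ((Nat.prime_dvd_prime_iff_eq hp hq).mp this)
  · intro g hg h
    have := orderOf_dvd_of_pow_eq_one (hpowV g h)
    rw [hg] at this
    exact hpq ((Nat.prime_dvd_prime_iff_eq hq hp).mp this).symm
  · intro N hN hNbot
    haveI := hN
    obtain ⟨g, hg, hg1⟩ := (Subgroup.bot_or_exists_ne_one N).resolve_left hNbot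
    by_cases hNV : N ≤ V
    · have h := hgen (N ⊔ Subgroup.zpowers (SemidirectProduct.inr ⟨ζ, Subgroup.mem_zpowers ζ⟩)) g
        (Subgroup.mem_sup_left hg) (hNV hg) hg1 _
        (Subgroup.mem_sup_right (Subgroup.mem_zpowers _)) (by
          rw [hVmem, SemidirectProduct.right_inr]
          intro h
          exact hq.one_lt.ne' (hζ ▸ orderOf_eq_one_iff.mpr (congrArg Subtype.val h)))
      intro v hv
      have hvm : v ∈ N ⊔ Subgroup.zpowers (SemidirectProduct.inr
          (⟨ζ, Subgroup.mem_zpowers ζ⟩ : C)) := h ▸ Subgroup.mem_top v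
      rw [← SetLike.mem_coe, Subgroup.normal_mul] at hvm
      obtain ⟨a, ha, b, hb, rfl⟩ := hvm
      obtain ⟨n, rfl⟩ := Subgroup.mem_zpowers_iff.mp hb
      have h2 := (hVmem _).mp hv
      rw [SemidirectProduct.mul_right, (hVmem a).mp (hNV ha), one_mul,
        ← map_zpow, SemidirectProduct.right_inr] at h2
      show a * _ ∈ N
      rw [← map_zpow, h2, map_one, mul_one]
      exact ha
    · obtain ⟨a, ha, haV⟩ := SetLike.not_le_iff_exists.mp hNV
      obtain ⟨v, hvN, hvV, hv1⟩ : ∃ v ∈ N, v ∈ V ∧ v ≠ 1 := by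
        have hW : Multiplicative.ofAdd (1 : F) ≠ 1 := fun h => one_ne_zero (α := F) h
        set w : Multiplicative F ⋊[φ] C := SemidirectProduct.inl (Multiplicative.ofAdd (1 : F))
        refine ⟨w * a * w⁻¹ * a⁻¹, N.mul_mem (hN.conj_mem a ha w) (N.inv_mem ha), ?_, fun h => ?_⟩
        · rw [hVmem]
          simp [w, mul_comm]
        · apply haV
          rw [hVmem]
          rw [mul_inv_eq_one, mul_inv_eq_iff_eq_mul] at h
          have h2 := congrArg (fun z => (SemidirectProduct.left z).toAdd) h
          simp only [w, SemidirectProduct.mul_left, SemidirectProduct.left_inl,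
            SemidirectProduct.right_inl, map_one, MulAut.one_apply, toAdd_mul, toAdd_ofAdd,
            hφ, mul_one] at h2
          refine Subtype.ext (Units.ext ?_)
          have h3 : (((a.right : C) : Fˣ) : F) = 1 := by linear_combination -h2
          exact h3
      exact (hgen N v hvN hvV hv1 a ha haV).symm ▸ le_top

end CfsgLib.MinimalFrobenius
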