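import Mathlib
import Cfsg.Agent.Lib.SL2.PSL
import Cfsg.Agent.Lib.Spectrum.Extension

/-!
A module over the field with two elements for the projective special linear group of degree two over a
prime field, in which the elements of the characteristic order have no fixed points and the tori have
non-zero norm.
-/

set_option autoImplicit false
set_option linter.style.haveILetI false
set_option linter.unusedSectionVars false

namespace CfsgLib.PSLTwoModule

open Matrix CfsgLib.SL2
open scoped MatrixGroups

variable (p : ℕ) [Fact p.Prime]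

local notation "K" => ZMod p
local notation "P" => ProjectiveSpecialLinearGroup (Fin 2) (ZMod p)

/-- Functions with zero sum on every coset of every subgroup of order `p`. -/
noncomputable def fun0 : AddSubgroup (P → ZMod 2) where
  carrier := {f | ∀ u : P, orderOf u = p → ∀ x, ∑ i ∈ Finset.range p, f (x * u ^ i) = 0}
  zero_mem' := fun u _ x => by simp
  add_mem' := fun {f g} hf hg u hu x => by
    simp only [Pi.add_apply, Finset.sum_add_distrib, hf u hu x, hg u hu x, add_zero]
  neg_mem' := fun {f} hf u hu x => by simp only [Pi.neg_apply, Finset.sum_neg_distrib, hf u hu x, neg_zero]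

abbrev V := Multiplicative (fun0 p)

/-- Left translation. -/
noncomputable def trans (a : P) (f : fun0 p) : fun0 p :=
  ⟨fun x => (f : P → ZMod 2) (a⁻¹ * x), fun u hu x => by
    have := f.2 u hu (a⁻¹ * x)
    simpa only [mul_assoc] using this⟩

theorem trans_apply (a : P) (f : fun0 p) (x : P) :
    (trans p a f : P → ZMod 2) x = (f : P → ZMod 2) (a⁻¹ * x) := rfl

/-- The action. -/
noncomputable def act : P →* MulAut (V p) where
  toFun a := AddEquiv.toMultiplicative
    { toFun := trans p a
      invFun := trans p a⁻¹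
      left_inv := fun f => Subtype.ext (funext fun x => by simp [trans_apply, ← mul_assoc])
      right_inv := fun f => Subtype.ext (funext fun x => by simp [trans_apply, ← mul_assoc])
      map_add' := fun f g => rfl }
  map_one' := MulEquiv.ext fun v => Multiplicative.toAdd.injective
    (Subtype.ext (funext fun x => by
      show (trans p 1 v.toAdd : P → ZMod 2) x = (v.toAdd : P → ZMod 2) x
      simp [trans_apply]))
  map_mul' a b := MulEquiv.ext fun v => Multiplicative.toAdd.injective
    (Subtype.ext (funext fun x => by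
      show (trans p (a * b) v.toAdd : P → ZMod 2) x = (trans p a (trans p b v.toAdd) : P → ZMod 2) x
      simp [trans_apply, mul_assoc]))

theorem exp_two (v : V p) : v ^ 2 = 1 := by
  apply Multiplicative.toAdd.injective
  rw [toAdd_pow, toAdd_one]
  apply Subtype.ext
  funext x
  rw [two_nsmul]
  exact CharTwo.add_self_eq_zero _

theorem norm_apply (a : P) (v : V p) (x : P) :
    ((CfsgLib.SpectrumExt.norm (act p) a v).toAdd : P → ZMod 2) x =
      ∑ i ∈ Finset.range (orderOf a), (v.toAdd : P → ZMod 2) ((a ^ i)⁻¹ * x) := by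
  rw [CfsgLib.SpectrumExt.norm, CfsgLib.SpectrumExt.normPow, toAdd_prod, AddSubgroup.val_finsetSum,
    Finset.sum_apply]
  rfl

theorem norm_of_order_p (a : P) (ha : orderOf a = p) (v : V p) :
    CfsgLib.SpectrumExt.norm (act p) a v = 1 := by
  apply Multiplicative.toAdd.injective
  apply Subtype.ext
  funext x
  rw [norm_apply, ha]
  have hu : orderOf (x⁻¹ * a⁻¹ * x) = p := by
    rw [show x⁻¹ * a⁻¹ * x = MulAut.conj x⁻¹ a⁻¹ by simp, MulEquiv.orderOf_eq,
      orderOf_inv, ha]
  have := v.toAdd.2 _ hu x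
  rw [toAdd_one, AddSubgroup.coe_zero, Pi.zero_apply, ← this]
  refine Finset.sum_congr rfl fun i _ => congrArg _ ?_
  have e : (x⁻¹ * a⁻¹ * x) ^ i = x⁻¹ * (a ^ i)⁻¹ * x := by
    rw [show x⁻¹ * a⁻¹ * x = MulAut.conj x⁻¹ a⁻¹ by simp, ← map_pow, inv_pow]
    simp
  rw [e]
  group

theorem two_ne (h5 : 5 ≤ p) : (2 : K) ≠ 0 := by
  intro h
  have h2 : ((2 : ℕ) : K) = 0 := by exact_mod_cast h
  have := Nat.le_of_dvd (by norm_num) ((ZMod.natCast_eq_zero_iff 2 p).mp h2)
  omega

theorem exists_elliptic (h5 : 5 ≤ p) : ∃ c : K, c ≠ 0 ∧ ∀ r : K, r * r - c * r + 1 ≠ 0 := by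
  classical
  by_contra hcon
  push Not at hcon
  have hsub : (Finset.univ.erase (0 : K)) ⊆
      (Finset.univ.erase (0 : K)).image (fun x => x + x⁻¹) := by
    intro c hc
    obtain ⟨r, hr⟩ := hcon c (Finset.ne_of_mem_erase hc)
    have hr0 : r ≠ 0 := fun h => by simp [h] at hr
    refine Finset.mem_image.mpr ⟨r, Finset.mem_erase.mpr ⟨hr0, Finset.mem_univ _⟩, ?_⟩
    field_simp
    linear_combination hr
  have hinj := Finset.card_image_iff.mp
    (le_antisymm Finset.card_image_le (Finset.card_le_card hsub))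
  have h2 := two_ne p h5
  have h := hinj (x₁ := (2 : K)) (Finset.mem_coe.mpr (Finset.mem_erase.mpr ⟨h2, Finset.mem_univ _⟩))
    (x₂ := (2 : K)⁻¹) (Finset.mem_coe.mpr (Finset.mem_erase.mpr ⟨inv_ne_zero h2, Finset.mem_univ _⟩))
    (by simp [add_comm])
  have h4 : (2 : K) * 2 = 1 := by nth_rewrite 2 [h]; exact mul_inv_cancel₀ h2
  have h3 : ((3 : ℕ) : K) = 0 := by push_cast; linear_combination h4
  have := Nat.le_of_dvd (by norm_num) ((ZMod.natCast_eq_zero_iff 3 p).mp h3)
  omega

variable {p}

/-- The condition on a lift. -/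
def Cond (A : Matrix (Fin 2) (Fin 2) K) (c : K) (M : SL(2, K)) : Prop :=
  (A * (M : Matrix (Fin 2) (Fin 2) K)).trace = c ∨ (A * (M : Matrix (Fin 2) (Fin 2) K)).trace = -c

open _root_.Classical in
/-- The indicator of the condition. -/
noncomputable def phi (A : Matrix (Fin 2) (Fin 2) K) (c : K) (x : P) : ZMod 2 :=
  if ∃ M : SL(2, K), proj M = x ∧ Cond A c M then 1 else 0

open _root_.Classical in
theorem phi_proj (A : Matrix (Fin 2) (Fin 2) K) (c : K) (M : SL(2, K)) :
    phi A c (proj M) = if Cond A c M then 1 else 0 := by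
  have key : (∃ M' : SL(2, K), proj M' = proj M ∧ Cond A c M') ↔ Cond A c M := by
    refine ⟨?_, fun h => ⟨M, rfl, h⟩⟩
    rintro ⟨M', hp', h⟩
    have hz : M⁻¹ * M' ∈ Subgroup.center SL(2, K) := QuotientGroup.eq.mp hp'.symm
    rcases eq_one_or_eq_neg_one_of_mem_center _ hz with e | e
    · rwa [inv_mul_eq_one.mp e]
    · have e' : M' = -M := by
        rw [← mul_inv_cancel_left M M', e, mul_neg, mul_one]
      rw [e'] at h
      unfold Cond at h ⊢
      rw [Matrix.SpecialLinearGroup.coe_neg, Matrix.mul_neg, Matrix.trace_neg, neg_eq_iff_eq_neg,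
        neg_inj] at h
      exact h.symm
  simp only [phi, key]

theorem sum_range_zmod {β : Type*} [AddCommMonoid β] (f : K → β) :
    ∑ i ∈ Finset.range p, f (i : K) = ∑ z : K, f z := by
  refine Finset.sum_bij' (fun i _ => (i : K)) (fun z _ => z.val) (fun _ _ => Finset.mem_univ _)
    (fun z _ => Finset.mem_range.mpr z.val_lt) (fun i hi => ?_) (fun z _ => ZMod.natCast_zmod_val z)
    (fun _ _ => rfl)
  exact ZMod.val_cast_of_lt (Finset.mem_range.mp hi)

theorem mem_fun0 (h5 : 5 ≤ p) (A : Matrix (Fin 2) (Fin 2) K) (hA : A.det = 1) (c : K) (hc0 : c ≠ 0)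
    (hc : ∀ r : K, r * r - c * r + 1 ≠ 0) : phi A c ∈ fun0 p := by
  classical
  intro u hu x
  obtain ⟨M, rfl⟩ := proj_surjective x
  obtain ⟨U, rfl⟩ := proj_surjective u
  have hp : p.Prime := Fact.out
  have hodd : Odd p := hp.odd_of_ne_two (by omega)
  have h2 := two_ne p h5
  have hnr : ¬ Regular U := by
    intro hr
    have hd : orderOf (proj U) ∣ orderOf U := orderOf_map_dvd _ U
    rw [hu] at hd
    have hq : Nat.card K = p := Nat.card_zmod p
    rcases orderOf_regular hr with h | h <;> rw [hq] at h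
    · have := Nat.le_of_dvd (by omega) (hd.trans h); omega
    · exact hp.not_dvd_one ((Nat.dvd_add_right dvd_rfl).mp (hd.trans h))
  set τ := (U : Matrix (Fin 2) (Fin 2) K).trace with hτ
  obtain ⟨s, hτs⟩ : ∃ s : K, τ = 2 * s := ⟨τ / 2, by field_simp⟩
  have hs2 : s * s = 1 := by
    have h : τ * τ = 4 := not_not.mp hnr
    rw [hτs] at h
    exact mul_left_cancel₀ (mul_ne_zero h2 h2) (by linear_combination h)
  set N : Matrix (Fin 2) (Fin 2) K := s • (U : Matrix (Fin 2) (Fin 2) K) - 1 with hN
  have hN2 : N * N = 0 := by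
    have e : N * N = (s * s) • ((U : Matrix (Fin 2) (Fin 2) K) * U) -
        (2 * s) • (U : Matrix (Fin 2) (Fin 2) K) + 1 := by
      simp only [hN, Matrix.sub_mul, Matrix.mul_sub, Matrix.smul_mul, Matrix.mul_smul, Matrix.one_mul,
        Matrix.mul_one]
      module
    rw [e, cayley, U.det_coe, ← hτ, hτs, hs2]
    module
  have htrN : N.trace = 0 := by
    rw [hN, Matrix.trace_sub, Matrix.trace_smul, ← hτ, hτs, Matrix.trace_one, smul_eq_mul,
      Fintype.card_fin]
    push_cast
    linear_combination 2 * hs2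
  have hUk : ∀ k : ℕ, (U : Matrix (Fin 2) (Fin 2) K) ^ k = s ^ k • (1 + (k : K) • N) := by
    intro k
    induction k with
    | zero => simp
    | succ k ih =>
      have hU : (U : Matrix (Fin 2) (Fin 2) K) = s • (1 + N) := by
        rw [hN, add_sub_cancel, smul_smul, hs2, one_smul]
      rw [pow_succ, ih, hU]
      simp only [Matrix.smul_mul, Matrix.mul_smul, Matrix.add_mul, Matrix.mul_add, Matrix.one_mul,
        Matrix.mul_one, hN2, smul_zero, add_zero]
      push_cast
      rw [pow_succ s]
      module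
  set B := A * (M : Matrix (Fin 2) (Fin 2) K) with hB
  set α := B.trace
  set β := (B * N).trace with hβ
  have hterm : ∀ i : ℕ, phi A c (proj M * proj U ^ i) =
      if α + (i : K) * β = c ∨ α + (i : K) * β = -c then 1 else 0 := by
    intro i
    rw [← map_pow, ← map_mul, phi_proj]
    refine if_congr ?_ rfl rfl
    unfold Cond
    rw [Matrix.SpecialLinearGroup.coe_mul, Matrix.SpecialLinearGroup.coe_pow, hUk, ← Matrix.mul_assoc,
      ← hB, Matrix.mul_smul, Matrix.trace_smul, Matrix.mul_add, Matrix.trace_add, Matrix.mul_smul,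
      Matrix.trace_smul, Matrix.mul_one, ← hβ, smul_eq_mul, smul_eq_mul]
    rcases mul_self_eq_one_iff.mp (show s ^ i * s ^ i = 1 by rw [← mul_pow, hs2, one_pow]) with e | e <;>
      rw [e]
    · rw [one_mul]
    · rw [neg_one_mul, neg_eq_iff_eq_neg, neg_inj]
      exact or_comm
  rw [Finset.sum_congr rfl fun i _ => hterm i]
  rw [sum_range_zmod (fun z : K => if α + z * β = c ∨ α + z * β = -c then (1 : ZMod 2) else 0)]
  by_cases hb : β = 0
  · have hne : ∀ e : K, e * e = c * c → α ≠ e := by
      intro e he hα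
      -- the line fixed by `N` is invariant under `B`, so the discriminant of `B` is a square
      have hdetB : B.det = 1 := by rw [hB, Matrix.det_mul, hA, M.det_coe, one_mul]
      have e00 := congrFun (congrFun hN2 0) 0
      simp [Matrix.mul_apply, Fin.sum_univ_two] at e00
      have e11 : N 1 1 = -N 0 0 := by rw [Matrix.trace_fin_two] at htrN; linear_combination htrN
      have ebeta : B 0 0 * N 0 0 + B 0 1 * N 1 0 + (B 1 0 * N 0 1 + B 1 1 * N 1 1) = 0 := by
        rw [← hb, hβ]; simp [Matrix.trace_fin_two, Matrix.mul_apply, Fin.sum_univ_two]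
      rw [e11] at ebeta
      have hN0 : N ≠ 0 := by
        intro h0
        have h1 := hUk 1
        rw [h0, pow_one, pow_one, smul_zero, add_zero] at h1
        have : proj U = 1 := by
          rw [proj_eq_one_iff, mem_center_iff_not_nonScalar]
          exact fun hh => hh s h1
        rw [this, orderOf_one] at hu
        exact hp.one_lt.ne hu
      obtain ⟨r, hr⟩ : ∃ r, r * r = (B 0 0 - B 1 1) * (B 0 0 - B 1 1) + 4 * (B 0 1 * B 1 0) := by
        by_cases hy : N 0 1 = 0
        · have hx : N 0 0 = 0 := by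
            rw [hy, zero_mul, add_zero] at e00; exact mul_self_eq_zero.mp e00
          have hz : N 1 0 ≠ 0 := by
            intro hz
            apply hN0
            ext i j
            fin_cases i <;> fin_cases j <;> simp [hx, hy, hz, e11]
          rw [hx, hy] at ebeta
          have hb01 : B 0 1 = 0 := (mul_eq_zero.mp (by linear_combination ebeta :
            B 0 1 * N 1 0 = 0)).resolve_right hz
          exact ⟨B 0 0 - B 1 1, by rw [hb01]; ring⟩
        · refine ⟨B 0 0 - B 1 1 - 2 * B 0 1 * (N 0 0 / N 0 1), ?_⟩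
          field_simp
          linear_combination (-4 * B 0 1 * N 0 1) * ebeta + (4 * B 0 1 * B 0 1) * e00
      have hdisc : r * r = c * c - 4 := by
        rw [hr, ← he, ← hα]
        rw [Matrix.det_fin_two] at hdetB
        show _ = B.trace * B.trace - 4
        rw [Matrix.trace_fin_two]
        linear_combination -4 * hdetB
      refine hc ((c + r) / 2) ?_
      field_simp
      linear_combination hdisc
    refine Finset.sum_eq_zero fun z _ => if_neg ?_
    rw [hb, mul_zero, add_zero, not_or]
    exact ⟨hne c rfl, hne (-c) (by ring)⟩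
  · rw [Fintype.sum_equiv ((Equiv.mulRight₀ β hb).trans (Equiv.addLeft α))
      (fun z : K => if α + z * β = c ∨ α + z * β = -c then (1 : ZMod 2) else 0)
      (fun w : K => if w = c ∨ w = -c then (1 : ZMod 2) else 0) (fun z => rfl), Finset.sum_boole]
    have hcn : c ≠ -c := fun h => hc0 ((mul_eq_zero.mp (by linear_combination h : (2 : K) * c = 0)).resolve_left h2)
    have : (Finset.univ.filter fun w : K => w = c ∨ w = -c) = {c, -c} := by ext w; simp
    rw [this, Finset.card_pair hcn]
    decide

theorem exists_matrix (h5 : 5 ≤ p) (c : K) (g : SL(2, K)) (hg : Regular g) :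
    ∃ A : Matrix (Fin 2) (Fin 2) K, A.det = 1 ∧ A.trace = c ∧
      (A * (g : Matrix (Fin 2) (Fin 2) K)).trace = c * (g : Matrix (Fin 2) (Fin 2) K).trace / 2 := by
  have h2 := two_ne p h5
  set G := (g : Matrix (Fin 2) (Fin 2) K) with hG
  set τ := G.trace with hτ
  obtain ⟨Q, hQ, hQG⟩ := exists_companion G hg.nonScalar
  rw [g.det_coe, ← hτ] at hQG
  set C : Matrix (Fin 2) (Fin 2) K := !![0, -1; 1, τ] with hC
  have hd : 1 - τ * τ / 4 ≠ 0 := by
    intro h
    apply hg
    have h4 : (4 : K) ≠ 0 := by rw [show (4 : K) = 2 * 2 by norm_num]; exact mul_ne_zero h2 h2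
    field_simp at h
    rw [← hτ]
    linear_combination -h
  obtain ⟨a, b, hab⟩ := FiniteField.exists_root_sum_quadratic
    (f := (Polynomial.X ^ 2 : Polynomial K))
    (g := Polynomial.C (1 - τ * τ / 4) * Polynomial.X ^ 2 + Polynomial.C 0 * Polynomial.X +
      Polynomial.C (-(c * c / 4 - 1)))
    (Polynomial.degree_X_pow 2) (Polynomial.degree_quadratic hd)
    (by rw [ZMod.card]; exact (Nat.odd_iff.mp ((Fact.out : p.Prime).odd_of_ne_two (by omega))))
  simp only [Polynomial.eval_add, Polynomial.eval_mul, Polynomial.eval_pow, Polynomial.eval_X,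
    Polynomial.eval_C, zero_mul, add_zero] at hab
  set k := a - b * τ / 2 with hk
  set A₀ : Matrix (Fin 2) (Fin 2) K := !![c / 2 + k, b + k * τ; b, c / 2 - k] with hA0
  have hu : IsUnit Q.det := isUnit_iff_ne_zero.mpr hQ
  have hinv : Q⁻¹ * G = C * Q⁻¹ := by
    calc Q⁻¹ * G = Q⁻¹ * (G * Q) * Q⁻¹ := by
          simp only [Matrix.mul_assoc, Matrix.mul_nonsing_inv _ hu, Matrix.mul_one]
      _ = C * Q⁻¹ := by rw [hQG, ← Matrix.mul_assoc Q⁻¹ Q, Matrix.nonsing_inv_mul _ hu, Matrix.one_mul]
  refine ⟨Q * A₀ * Q⁻¹, ?_, ?_, ?_⟩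
  · rw [Matrix.det_conj (Matrix.isUnit_iff_isUnit_det Q |>.mpr hu), hA0, Matrix.det_fin_two_of, hk]
    have h4 : (4 : K) ≠ 0 := by rw [show (4 : K) = 2 * 2 by norm_num]; exact mul_ne_zero h2 h2
    field_simp at hab ⊢
    linear_combination -hab
  · rw [Matrix.trace_mul_cycle, Matrix.nonsing_inv_mul _ hu, Matrix.one_mul, hA0, Matrix.trace_fin_two_of]
    field_simp
    ring
  · rw [Matrix.mul_assoc (Q * A₀), hinv, ← Matrix.mul_assoc, Matrix.trace_mul_cycle,
      ← Matrix.mul_assoc, Matrix.nonsing_inv_mul _ hu, Matrix.one_mul, hA0, hC]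
    simp [Matrix.trace_fin_two]
    field_simp
    ring

/-- The image of a torus contains an element of full order with non-zero norm. -/
theorem exists_norm_ne (h5 : 5 ≤ p) (g : SL(2, K)) (hg : Regular g) :
    ∃ (a : P) (v : V p), orderOf a = Nat.card ((cent g).map proj) ∧
      CfsgLib.SpectrumExt.norm (act p) a v ≠ 1 := by
  classical
  have h2 := two_ne p h5
  obtain ⟨c, hc0, hc⟩ := exists_elliptic p h5
  obtain ⟨A, hA, htA, htg⟩ := exists_matrix h5 c g hg
  obtain ⟨y, hy⟩ := (proj_cent_regular hg).1.exists_ofOrder_eq_natCard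
  refine ⟨y, Multiplicative.ofAdd ⟨phi A c, mem_fun0 h5 A hA c hc0 hc⟩, by rw [Subgroup.orderOf_coe, hy],
    fun h => ?_⟩
  have hval := congrArg (fun w : V p => (w.toAdd : P → ZMod 2) 1) h
  simp only [norm_apply, toAdd_one, AddSubgroup.coe_zero, Pi.zero_apply, toAdd_ofAdd, mul_one] at hval
  rw [Finset.sum_eq_single 0 (fun i hi hi0 => ?_) (fun hn => absurd (Finset.mem_range.mpr (orderOf_pos _)) hn)]
    at hval
  · rw [pow_zero, inv_one, ← map_one (proj (F := K)), phi_proj, if_pos] at hval
    · exact one_ne_zero hval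
    · left
      rw [Matrix.SpecialLinearGroup.coe_one, Matrix.mul_one, htA]
  · obtain ⟨M, hM, hMx⟩ : ((y : P) ^ i)⁻¹ ∈ (cent g).map proj := inv_mem (pow_mem y.2 i)
    rw [← hMx, phi_proj]
    refine if_neg fun hcond => ?_
    obtain ⟨a, b, hab, hn⟩ := exists_coords hg.nonScalar hM
    set τ := (g : Matrix (Fin 2) (Fin 2) K).trace with hτ
    have htr : (A * (M : Matrix (Fin 2) (Fin 2) K)).trace = c * (a + b * τ / 2) := by
      rw [hab, Matrix.mul_add, Matrix.mul_smul, Matrix.mul_smul, Matrix.mul_one, Matrix.trace_add,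
        Matrix.trace_smul, Matrix.trace_smul, htA, htg, smul_eq_mul, smul_eq_mul]
      field_simp
    have hL : (a + b * τ / 2) * (a + b * τ / 2) = 1 := by
      have : a + b * τ / 2 = 1 ∨ a + b * τ / 2 = -1 := by
        rcases hcond with e | e <;> rw [htr] at e
        · exact Or.inl (mul_left_cancel₀ hc0 (e.trans (mul_one c).symm))
        · exact Or.inr (mul_left_cancel₀ hc0 (e.trans (by ring)))
      rcases this with e | e <;> rw [e] <;> ring
    have hb : b = 0 := by
      have h4 : b * b * (τ * τ - 4) = 0 := by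
        field_simp at hL
        linear_combination hL - 4 * hn
      exact mul_self_eq_zero.mp ((mul_eq_zero.mp h4).resolve_right (sub_ne_zero.mpr hg))
    have hone : proj M = 1 := by
      rw [proj_eq_one_iff, mem_center_iff_not_nonScalar]
      refine fun hh => hh a ?_
      rw [hab, hb, zero_smul, add_zero]
    rw [hMx, inv_eq_one] at hone
    exact absurd (Nat.le_of_dvd (Nat.pos_of_ne_zero hi0) (orderOf_dvd_of_pow_eq_one hone))
      (not_le.mpr (Finset.mem_range.mp hi))

end CfsgLib.PSLTwoModule
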