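import Mathlib
import Cfsg.Agent.Lib.Spectrum.Table240

/-!
A group of order 240 acting without fixed points on a space of dimension four over the field
with seven elements, with unique involution and element orders dividing 8, 10 or 12.
-/

set_option autoImplicit false
set_option linter.style.haveILetI false

namespace CfsgLib.Twisted240

open Matrix

def code (k : ℕ) : ℕ := (codes >>> (48 * k)) % 2 ^ 48
def invCode (k : ℕ) : ℕ := (diffInvs >>> (48 * k)) % 2 ^ 48
def tblA (k : ℕ) : ℕ := (mulA >>> (8 * k)) % 256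
def tblB (k : ℕ) : ℕ := (mulB >>> (8 * k)) % 256
def ord (k : ℕ) : ℕ := (ords >>> (8 * k)) % 256
def pw (k e : ℕ) : ℕ := (powers >>> (8 * (16 * k + e))) % 256

def digit (X : ℕ) (i j : Fin 4) : ℕ := X / 7 ^ (4 * i.val + j.val) % 7

abbrev Mat := Matrix (Fin 4) (Fin 4) (ZMod 7)

def mat (X : ℕ) : Mat := Matrix.of fun i j => (digit X i j : ZMod 7)

def prodOK (X Y Z : ℕ) : Prop := ∀ i j : Fin 4,
  (digit X i 0 * digit Y 0 j + digit X i 1 * digit Y 1 j + digit X i 2 * digit Y 2 j +
    digit X i 3 * digit Y 3 j) % 7 = digit Z i j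

instance (X Y Z : ℕ) : Decidable (prodOK X Y Z) := by unfold prodOK; infer_instance

theorem mat_mul {X Y Z : ℕ} (h : prodOK X Y Z) : mat X * mat Y = mat Z := by
  ext i j
  have := congrArg (fun n : ℕ => (n : ZMod 7)) (h i j)
  simp only [ZMod.natCast_mod, Nat.cast_add, Nat.cast_mul] at this
  simpa [mat, Matrix.mul_apply, Fin.sum_univ_four] using this

theorem code_zero : mat (code 0) = 1 := by decide +kernel
theorem code_z : mat (code idxZ) = -1 := by decide +kernel

theorem tblA_ok : ∀ k : Fin 240, tblA k < 240 ∧ prodOK (code k) (code idxA) (code (tblA k)) := by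
  decide +kernel

theorem tblB_ok : ∀ k : Fin 240, tblB k < 240 ∧ prodOK (code k) (code idxB) (code (tblB k)) := by
  decide +kernel

theorem pw_ok : ∀ k : Fin 240, ∀ e : Fin 13, e.val < ord k →
    pw k e < 240 ∧ prodOK (code (pw k e)) (code k) (code (pw k (e + 1))) := by
  decide +kernel

theorem pw_ends : ∀ k : Fin 240,
    pw k 0 = 0 ∧ pw k (ord k) = 0 ∧ 0 < ord k ∧ ord k ≤ 12 ∧ (ord k ∣ 8 ∨ ord k ∣ 10 ∨ ord k ∣ 12) := by
  decide +kernel

/-- Entries of `code k` minus the identity. -/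
def diff (k : ℕ) (i j : Fin 4) : ℕ := (digit (code k) i j + if i = j then 6 else 0) % 7

theorem inv_ok : ∀ k : Fin 240, k.val ≠ 0 → ∀ i j : Fin 4,
    (digit (invCode k) i 0 * diff k 0 j + digit (invCode k) i 1 * diff k 1 j +
      digit (invCode k) i 2 * diff k 2 j + digit (invCode k) i 3 * diff k 3 j) % 7 =
        if i = j then 1 else 0 := by
  decide +kernel

theorem sq_ok : ∀ k : Fin 240, prodOK (code k) (code k) (code 0) → k.val = 0 ∨ k.val = idxZ := by
  decide +kernel

theorem mat_pow (k : Fin 240) : ∀ e : ℕ, e ≤ ord k → mat (code k) ^ e = mat (code (pw k e)) := by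
  intro e
  induction e with
  | zero => intro _; rw [pow_zero, (pw_ends k).1, code_zero]
  | succ e ih =>
    intro he
    obtain ⟨-, -, -, h12, -⟩ := pw_ends k
    rw [pow_succ, ih (by omega)]
    exact mat_mul (pw_ok k ⟨e, by omega⟩ (show e < ord k by omega)).2

theorem mat_pow_ord (k : Fin 240) : mat (code k) ^ ord k = 1 := by
  rw [mat_pow k _ le_rfl, (pw_ends k).2.1, code_zero]

/-- The units given by the table. -/
def unit (k : Fin 240) : GL (Fin 4) (ZMod 7) :=
  Units.ofPowEqOne (mat (code k)) (ord k) (mat_pow_ord k) (pw_ends k).2.2.1.ne'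

@[simp] theorem coe_unit (k : Fin 240) : (unit k : Mat) = mat (code k) := Units.val_ofPowEqOne ..

theorem idxA_lt : idxA < 240 := by decide +kernel
theorem idxB_lt : idxB < 240 := by decide +kernel

def genA : GL (Fin 4) (ZMod 7) := unit ⟨idxA, idxA_lt⟩
def genB : GL (Fin 4) (ZMod 7) := unit ⟨idxB, idxB_lt⟩

/-- The group. -/
def G240 : Subgroup (GL (Fin 4) (ZMod 7)) := Subgroup.closure {genA, genB}

theorem mem_table {g : GL (Fin 4) (ZMod 7)} (hg : g ∈ G240) :
    ∃ k : Fin 240, (g : Mat) = mat (code k) := by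
  set T : Set (GL (Fin 4) (ZMod 7)) := {g | ∃ k : Fin 240, (g : Mat) = mat (code k)} with hT
  have hA : ∀ g ∈ T, g * genA ∈ T := by
    rintro g ⟨k, hk⟩
    exact ⟨⟨tblA k, (tblA_ok k).1⟩, by
      rw [Units.val_mul, hk, genA, coe_unit]; exact mat_mul (tblA_ok k).2⟩
  have hB : ∀ g ∈ T, g * genB ∈ T := by
    rintro g ⟨k, hk⟩
    exact ⟨⟨tblB k, (tblB_ok k).1⟩, by
      rw [Units.val_mul, hk, genB, coe_unit]; exact mat_mul (tblB_ok k).2⟩
  have hs : ∀ y ∈ ({genA, genB} : Set (GL (Fin 4) (ZMod 7))), ∀ g ∈ T, g * y ∈ T := by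
    rintro y (rfl | rfl)
    · exact hA
    · exact hB
  have hpow : ∀ y ∈ ({genA, genB} : Set (GL (Fin 4) (ZMod 7))), ∀ (n : ℕ), ∀ g ∈ T, g * y ^ n ∈ T := by
    intro y hy n
    induction n with
    | zero => intro g hg; rwa [pow_zero, mul_one]
    | succ n ih => intro g hg; rw [pow_succ, ← mul_assoc]; exact hs y hy _ (ih g hg)
  show g ∈ T
  induction hg using Subgroup.closure_induction_right with
  | one => exact ⟨⟨0, by omega⟩, code_zero.symm⟩
  | mul_right x _ y hy hxy => exact hs y hy _ hxy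
  | mul_inv_cancel x _ y hy hxy =>
    have hinv : y⁻¹ = y ^ (orderOf y - 1) := by
      apply inv_eq_of_mul_eq_one_right
      rw [← pow_succ', Nat.sub_add_cancel (orderOf_pos y), pow_orderOf_eq_one]
    rw [hinv]; exact hpow y hy _ _ hxy

theorem mem_of_table_pow (k : Fin 240) (h : ∃ g ∈ G240, (g : Mat) = mat (code k)) : unit k ∈ G240 := by
  obtain ⟨g, hg, e⟩ := h
  rwa [show unit k = g from Units.ext (by rw [coe_unit, e])]

theorem fpf (g : G240) (hg : g ≠ 1) (v : Fin 4 → ZMod 7) (hv : ((g : GL (Fin 4) (ZMod 7)) : Mat) *ᵥ v = v) :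
    v = 0 := by
  obtain ⟨k, hk⟩ := mem_table g.2
  have hk0 : k.val ≠ 0 := by
    intro e
    refine hg (Subtype.ext (Units.ext ?_))
    rw [hk, e, code_zero]; rfl
  have hN : mat (invCode k) * (mat (code k) - 1) = 1 := by
    ext i j
    have h := congrArg (fun n : ℕ => (n : ZMod 7)) (inv_ok k hk0 i j)
    have hd : ∀ i j : Fin 4, ((diff k i j : ℕ) : ZMod 7) = (mat (code k) - 1) i j := fun i j => by
      rw [diff, ZMod.natCast_mod, Nat.cast_add]
      by_cases hij : i = j
      · subst hij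
        simp [mat, sub_eq_add_neg]
        rfl
      · simp [mat, hij]
    simp only [ZMod.natCast_mod, Nat.cast_add, Nat.cast_mul, hd] at h
    rw [Matrix.mul_apply, Fin.sum_univ_four]
    refine h.trans ?_
    by_cases hij : i = j <;> simp [hij, Matrix.one_apply]
  rw [hk] at hv
  calc v = (mat (invCode k) * (mat (code k) - 1)) *ᵥ v := by rw [hN, Matrix.one_mulVec]
    _ = 0 := by rw [← Matrix.mulVec_mulVec, Matrix.sub_mulVec, hv, Matrix.one_mulVec, sub_self, Matrix.mulVec_zero]

theorem orderOf_dvd (g : G240) : orderOf g ∣ 8 ∨ orderOf g ∣ 10 ∨ orderOf g ∣ 12 := by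
  obtain ⟨k, hk⟩ := mem_table g.2
  have h : orderOf g ∣ ord k := by
    rw [← Subgroup.orderOf_coe, ← orderOf_units, hk]
    exact orderOf_dvd_of_pow_eq_one (mat_pow_ord k)
  obtain ⟨-, -, -, -, h'⟩ := pw_ends k
  exact h'.imp h.trans (Or.imp h.trans h.trans)

theorem invol_unique (g : G240) (h : g * g = 1) (h1 : g ≠ 1) :
    ((g : GL (Fin 4) (ZMod 7)) : Mat) = -1 := by
  obtain ⟨k, hk⟩ := mem_table g.2
  have h2 : mat (code k) * mat (code k) = mat (code 0) := by
    rw [← hk, code_zero, ← Units.val_mul, ← Subgroup.coe_mul, h]; rfl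
  have hok : prodOK (code k) (code k) (code 0) := by
    intro i j
    have e : ((mat (code k) * mat (code k)) i j) = mat (code 0) i j := by rw [h2]
    simp only [mat, Matrix.mul_apply, Fin.sum_univ_four, Matrix.of_apply, ← Nat.cast_mul, ← Nat.cast_add] at e
    rw [ZMod.natCast_eq_natCast_iff'] at e
    rwa [Nat.mod_eq_of_lt (show digit (code 0) i j < 7 from Nat.mod_lt _ (by omega))] at e
  rcases sq_ok k hok with e | e
  · exact absurd (Subtype.ext (Units.ext (by rw [hk, e, code_zero]; rfl))) h1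
  · rw [hk, e, code_z]

/-! ### Distinguished elements -/

theorem idx_lt : idx8 < 240 ∧ idx10 < 240 ∧ idx12 < 240 := by decide +kernel

theorem unit_pows : ∀ e : Fin 13, 0 < e.val →
    (e.val < ord idx8 → mat (code (pw idx8 e)) ≠ 1) ∧ (e.val < ord idx10 → mat (code (pw idx10 e)) ≠ 1) ∧
      (e.val < ord idx12 → mat (code (pw idx12 e)) ≠ 1) := by
  decide +kernel

theorem ord_vals : ord idx8 = 8 ∧ ord idx10 = 10 ∧ ord idx12 = 12 := by decide +kernel

theorem orderOf_unit {k : Fin 240} {g : G240} (hg : ((g : GL (Fin 4) (ZMod 7)) : Mat) = mat (code k))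
    (hne : ∀ e : Fin 13, 0 < e.val → e.val < ord k → mat (code (pw k e)) ≠ 1) : orderOf g = ord k := by
  obtain ⟨-, -, hpos, h12, -⟩ := pw_ends k
  rw [← Subgroup.orderOf_coe, ← orderOf_units, hg, orderOf_eq_iff hpos]
  refine ⟨mat_pow_ord k, fun m hm hm0 => ?_⟩
  rw [mat_pow k m hm.le]
  exact hne ⟨m, by omega⟩ hm0 hm

theorem exists_eight : ∃ g : G240, orderOf g = 8 := by
  refine ⟨⟨genA, Subgroup.subset_closure (by simp)⟩, ?_⟩
  rw [orderOf_unit (k := ⟨idx8, idx_lt.1⟩) (show (genA : Mat) = mat (code idx8) from coe_unit _)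
    (fun e h0 h => (unit_pows e h0).1 h)]
  exact ord_vals.1

theorem exists_twelve : ∃ g : G240, orderOf g = 12 := by
  refine ⟨⟨genA * genB, mul_mem (Subgroup.subset_closure (by simp)) (Subgroup.subset_closure (by simp))⟩, ?_⟩
  rw [orderOf_unit (k := ⟨idx12, idx_lt.2.2⟩) ?_ (fun e h0 h => (unit_pows e h0).2.2 h)]
  · exact ord_vals.2.2
  · rw [Units.val_mul, genA, genB, coe_unit, coe_unit]
    exact mat_mul (by decide +kernel)

theorem exists_ten : ∃ g : G240, orderOf g = 10 := by
  have hA : genA ∈ G240 := Subgroup.subset_closure (by simp)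
  have hB : genB ∈ G240 := Subgroup.subset_closure (by simp)
  refine ⟨⟨genA * genA * genB * genB, mul_mem (mul_mem (mul_mem hA hA) hB) hB⟩, ?_⟩
  rw [orderOf_unit (k := ⟨idx10, idx_lt.2.1⟩) ?_ (fun e h0 h => (unit_pows e h0).2.1 h)]
  · exact ord_vals.2.1
  · simp only [Units.val_mul, genA, genB, coe_unit]
    rw [mat_mul (Z := code (tblA idxA)) (by decide +kernel),
      mat_mul (Z := code (tblB (tblA idxA))) (by decide +kernel)]
    exact mat_mul (by decide +kernel)

theorem neg_one_mem : ∃ g : G240, ((g : GL (Fin 4) (ZMod 7)) : Mat) = -1 ∧ orderOf g = 2 := by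
  obtain ⟨g, hg⟩ := exists_eight
  have h2 : orderOf (g ^ 4) = 2 := by rw [orderOf_pow, hg]; norm_num
  refine ⟨g ^ 4, invol_unique _ ?_ (fun e => by rw [e, orderOf_one] at h2; omega), h2⟩
  rw [← pow_two, ← h2, pow_orderOf_eq_one]

end CfsgLib.Twisted240
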